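import Groth.Agent.VBLib.Line
import Groth.Agent.VBLib.RRGeom
import Groth.Agent.FBase.BC
import Groth.Agent.CurveCoh.Integral
import Groth.Agent.Props.GenLocus
import Groth.Agent.PicLaw.Basic
import Groth.Agent.VBStable.CokerSimple
import Groth.Prelude.Def_KLin
import Mathlib.LinearAlgebra.Matrix.GeneralLinearGroup.Card

/-!
# Endomorphism rings of sums of line bundles
-/

set_option autoImplicit false
set_option linter.style.haveILetI false

universe v u

open CategoryTheory Limits AlgebraicGeometry Opposite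

noncomputable section

namespace Groth.Agent.AutCount27

section Cat

variable {C : Type*} [Category C] [Preadditive C]

/-- A decomposition of `E` into `n` copies of `A`. -/
structure Copies (E A : C) (n : ℕ) where
  inj : Fin n → (A ⟶ E)
  prj : Fin n → (E ⟶ A)
  inj_prj : ∀ i j, inj i ≫ prj j = if i = j then 𝟙 A else 0
  total : ∑ i, prj i ≫ inj i = 𝟙 E

/-- Endomorphisms of copies are matrices. -/
def Copies.endEquiv {E A : C} {n : ℕ} (D : Copies E A n) :
    End E ≃+* Matrix (Fin n) (Fin n) (End A) where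
  toFun f := Matrix.of fun i j => (D.inj j ≫ f ≫ D.prj i : End A)
  invFun M := ∑ i, ∑ j, D.prj j ≫ (M i j : A ⟶ A) ≫ D.inj i
  left_inv f := by
    change ∑ i, ∑ j, D.prj j ≫ (D.inj j ≫ f ≫ D.prj i) ≫ D.inj i = f
    have h1 : ∀ i, ∑ j, D.prj j ≫ (D.inj j ≫ f ≫ D.prj i) ≫ D.inj i = f ≫ D.prj i ≫ D.inj i := by
      intro i
      calc ∑ j, D.prj j ≫ (D.inj j ≫ f ≫ D.prj i) ≫ D.inj i
          = (∑ j, D.prj j ≫ D.inj j) ≫ f ≫ D.prj i ≫ D.inj i := by
            simp only [Preadditive.sum_comp, Category.assoc]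
        _ = f ≫ D.prj i ≫ D.inj i := by rw [D.total, Category.id_comp]
    rw [Finset.sum_congr rfl fun i _ => h1 i, ← Preadditive.comp_sum, D.total, Category.comp_id]
  right_inv M := by
    ext a b
    change D.inj b ≫ (∑ i, ∑ j, D.prj j ≫ (M i j : A ⟶ A) ≫ D.inj i) ≫ D.prj a = _
    simp only [Preadditive.sum_comp, Preadditive.comp_sum, Category.assoc]
    rw [Finset.sum_eq_single a, Finset.sum_eq_single b]
    · rw [← Category.assoc, D.inj_prj, if_pos rfl, Category.id_comp, D.inj_prj, if_pos rfl]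
      exact Category.comp_id _
    · intro j _ hj
      rw [← Category.assoc, D.inj_prj, if_neg (Ne.symm hj), zero_comp]
    · simp
    · intro i _ hi
      refine Finset.sum_eq_zero fun j _ => ?_
      rw [D.inj_prj, if_neg hi, comp_zero, comp_zero, comp_zero]
    · simp
  map_add' f g := by
    ext a b
    change D.inj b ≫ ((f : E ⟶ E) + g) ≫ D.prj a = (D.inj b ≫ f ≫ D.prj a) + (D.inj b ≫ g ≫ D.prj a)
    rw [Preadditive.add_comp, Preadditive.comp_add]
  map_mul' f g := by
    ext a b
    rw [Matrix.mul_apply]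
    change D.inj b ≫ (g ≫ f) ≫ D.prj a =
      ∑ l, (D.inj b ≫ g ≫ D.prj l) ≫ (D.inj l ≫ f ≫ D.prj a)
    calc D.inj b ≫ (g ≫ f) ≫ D.prj a
        = (D.inj b ≫ g) ≫ (∑ l, D.prj l ≫ D.inj l) ≫ f ≫ D.prj a := by
          rw [D.total, Category.id_comp]
          simp only [Category.assoc]
      _ = _ := by simp only [Preadditive.sum_comp, Preadditive.comp_sum, Category.assoc]

/-- Endomorphisms of a sum without maps between the summands. -/
def endProd {A B : C} [HasBinaryBiproduct A B] (h₁ : ∀ f : A ⟶ B, f = 0) (h₂ : ∀ f : B ⟶ A, f = 0) :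
    End (A ⊞ B) ≃+* End A × End B where
  toFun f := ((biprod.inl ≫ f ≫ biprod.fst : End A), (biprod.inr ≫ f ≫ biprod.snd : End B))
  invFun p := biprod.map p.1 p.2
  left_inv f := by
    refine biprod.hom_ext' _ _ (biprod.hom_ext _ _ ?_ ?_) (biprod.hom_ext _ _ ?_ ?_)
    · simp
    · simp [h₁]
    · simp [h₂]
    · simp
  right_inv p := by simp
  map_add' f g := by
    refine Prod.ext ?_ ?_
    · change biprod.inl ≫ ((f : A ⊞ B ⟶ A ⊞ B) + g) ≫ biprod.fst = _
      rw [Preadditive.add_comp, Preadditive.comp_add]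
      rfl
    · change biprod.inr ≫ ((f : A ⊞ B ⟶ A ⊞ B) + g) ≫ biprod.snd = _
      rw [Preadditive.add_comp, Preadditive.comp_add]
      rfl
  map_mul' f g := by
    refine Prod.ext ?_ ?_
    · change biprod.inl ≫ ((g : A ⊞ B ⟶ A ⊞ B) ≫ f) ≫ biprod.fst =
        (biprod.inl ≫ g ≫ biprod.fst) ≫ (biprod.inl ≫ f ≫ biprod.fst)
      have hz : biprod.inl ≫ g ≫ biprod.snd = 0 := h₁ _
      conv_lhs => rw [← Category.comp_id (g : A ⊞ B ⟶ A ⊞ B), ← biprod.total]
      simp only [Preadditive.comp_add, Preadditive.add_comp, Category.assoc, reassoc_of% hz, zero_comp,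
        add_zero]
    · change biprod.inr ≫ ((g : A ⊞ B ⟶ A ⊞ B) ≫ f) ≫ biprod.snd =
        (biprod.inr ≫ g ≫ biprod.snd) ≫ (biprod.inr ≫ f ≫ biprod.snd)
      have hz : biprod.inr ≫ g ≫ biprod.fst = 0 := h₂ _
      conv_lhs => rw [← Category.comp_id (g : A ⊞ B ⟶ A ⊞ B), ← biprod.total]
      simp only [Preadditive.comp_add, Preadditive.add_comp, Category.assoc, reassoc_of% hz, zero_comp,
        zero_add]

/-- Conjugation by an isomorphism. -/
def endCongr {A B : C} (e : A ≅ B) : End A ≃+* End B where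
  toFun f := e.inv ≫ f ≫ e.hom
  invFun g := e.hom ≫ g ≫ e.inv
  left_inv f := by simp
  right_inv g := by simp
  map_add' f g := by
    change e.inv ≫ ((f : A ⟶ A) + g) ≫ e.hom = e.inv ≫ f ≫ e.hom + e.inv ≫ g ≫ e.hom
    rw [Preadditive.add_comp, Preadditive.comp_add]
  map_mul' f g := by
    change e.inv ≫ (g ≫ f) ≫ e.hom = (e.inv ≫ g ≫ e.hom) ≫ (e.inv ≫ f ≫ e.hom)
    simp

theorem card_aut (E : C) : Nat.card (Aut E) = Nat.card (End E)ˣ :=
  Nat.card_congr (Aut.unitsEndEquivAut E).symm.toEquiv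

theorem card_units_congr {R S : Type*} [Semiring R] [Semiring S] (e : R ≃+* S) :
    Nat.card Rˣ = Nat.card Sˣ :=
  Nat.card_congr (Units.mapEquiv e.toMulEquiv).toEquiv

theorem card_units_prod (R S : Type*) [Semiring R] [Semiring S] :
    Nat.card (R × S)ˣ = Nat.card Rˣ * Nat.card Sˣ := by
  rw [Nat.card_congr (MulEquiv.prodUnits (M := R) (N := S)).toEquiv, Nat.card_prod]

end Cat

section Field

variable (F : Type*) [Field F] [Finite F]

theorem card_units_matrix (n : ℕ) :
    Nat.card (Matrix (Fin n) (Fin n) F)ˣ = ∏ i : Fin n, (Nat.card F ^ n - Nat.card F ^ (i : ℕ)) := by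
  cases nonempty_fintype F
  rw [Nat.card_eq_fintype_card (α := F)]
  exact Matrix.card_GL_field (𝔽 := F) n

end Field

end Groth.Agent.AutCount27

namespace Groth.Agent.AutCount27

open Groth.Agent.QCoh Groth.Agent.Props.GenLocus

section Line

variable {k : Type u} [Field k] {X : Scheme.{u}} [X.Over (Spec (CommRingCat.of k))]

/-- Scalars as endomorphisms. -/
def scalHom (M : X.Modules) : k →+* End M where
  toFun c := (c • 𝟙 M : M ⟶ M)
  map_one' := one_smul k (𝟙 M)
  map_mul' a b := by
    change (a * b) • 𝟙 M = (b • 𝟙 M) ≫ (a • 𝟙 M)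
    rw [Linear.comp_smul, Category.comp_id, smul_smul]
  map_zero' := zero_smul k (𝟙 M)
  map_add' a b := add_smul a b (𝟙 M)

/-- `End O = k` when the global functions are the constants. -/
theorem scalHom_structure_bijective
    (h : Function.Bijective (Coh.toGlobal (X ↘ Spec (CommRingCat.of k)))) :
    Function.Bijective (scalHom (k := k) (Coh.structureModule X)) := by
  have key : ∀ c : k, sec (scalHom (k := k) (Coh.structureModule X) c) ⊤ =
      Coh.toGlobal (X ↘ Spec (CommRingCat.of k)) c := by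
    intro c
    refine (KLin.smul_app_apply c (𝟙 (Coh.structureModule X)) ⊤ (one' ⊤)).trans ?_
    change (X.presheaf.map (homOfLE (le_top : (⊤ : X.Opens) ≤ ⊤)).op
      (Coh.toGlobal (X ↘ Spec (CommRingCat.of k)) c)) * (1 : Γ(X, ⊤)) = _
    rw [mul_one, show (homOfLE (le_top : (⊤ : X.Opens) ≤ ⊤)).op = 𝟙 _ from Subsingleton.elim _ _,
      X.presheaf.map_id]
    rfl
  refine ⟨fun a b hab => h.1 ((key a).symm.trans ((congrArg (fun f => sec f ⊤) hab).trans (key b))),
    fun φ => ?_⟩
  obtain ⟨c, hc⟩ := h.2 (show Γ(X, ⊤) from sec φ ⊤)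
  refine ⟨c, Scheme.Modules.hom_ext _ _ fun U => ConcreteCategory.hom_ext _ _ fun a => ?_⟩
  have hs : sec (scalHom (k := k) (Coh.structureModule X) c) U = sec φ U := by
    rw [← sec_res _ (le_top : U ≤ ⊤), ← sec_res φ (le_top : U ≤ ⊤)]
    exact congrArg _ ((key c).trans hc)
  exact (app_eq _ U a).trans ((congrArg ((show Γ(X, U) from a) • ·) hs).trans (app_eq φ U a).symm)

variable [IsProper (X ↘ Spec (CommRingCat.of k))] [GeometricallyIntegral (X ↘ Spec (CommRingCat.of k))]
  [IsIntegral X]

/-- Endomorphisms of the structure sheaf of a geometrically integral proper scheme. -/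
def endStructure : k ≃+* End (Coh.structureModule X) :=
  RingEquiv.ofBijective (scalHom (Coh.structureModule X))
    (scalHom_structure_bijective
      (haveI : GeometricallyConnected (X ↘ Spec (CommRingCat.of k)) :=
        FBase.BC.geometricallyConnected_of_geometricallyIrreducible _
       VBLib.bijective_toGlobal_of_geometrically k X))

/-- Endomorphisms of an invertible module are the constants. -/
theorem scalHom_bijective {L : X.Modules} (hL : PicF.IsInvertible L) :
    Function.Bijective (scalHom (k := k) L) := by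
  haveI : GeometricallyConnected (X ↘ Spec (CommRingCat.of k)) :=
    FBase.BC.geometricallyConnected_of_geometricallyIrreducible _
  refine ⟨?_, fun φ => ?_⟩
  · haveI : Nontrivial (End L) := by
      refine nontrivial_of_ne 1 0 fun h => ?_
      have h0 : (𝟙 L : L ⟶ L) = 0 := h
      have h1 := VBLib.rk_eq (VBLib.ofRank_one_of_invertible hL)
      have hs : Subsingleton (L.presheaf.stalk (genericPoint X)) := subsingleton_of_forall_eq 0 fun t => by
        obtain ⟨U, hx, m, rfl⟩ := PullStalk.Sky.exists_germM_eq L (genericPoint X) t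
        have h2 : (𝟙 L : L ⟶ L).app U m = m := rfl
        rw [← h2, h0]
        exact map_zero _
      rw [VBLib.rk, Module.finrank_zero_of_subsingleton] at h1
      exact zero_ne_one h1
    exact (scalHom (k := k) L).injective
  · obtain ⟨M, -, ⟨e⟩⟩ := PicLaw.exists_inverse hL
    obtain ⟨c, hc⟩ := VBStable.end_scalar (VBLib.bijective_toGlobal_of_geometrically k X) e
      (ProjTwist.tensComm _ _ ≪≫ e) φ
    exact ⟨c, hc.symm⟩

/-- `End L = k`. -/
def endLine {L : X.Modules} (hL : PicF.IsInvertible L) : k ≃+* End L :=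
  RingEquiv.ofBijective (scalHom L) (scalHom_bijective hL)

variable [Smooth (X ↘ Spec (CommRingCat.of k))]

theorem eq_zero_of_not_iso (hdim : topologicalKrullDim X = 1) {L M : X.Modules}
    (hL : PicF.IsInvertible L) (hM : PicF.IsInvertible M)
    (hd : Curv2.deg k X L 1 = Curv2.deg k X M 1) (hne : ¬ Nonempty (L ≅ M)) (f : L ⟶ M) : f = 0 := by
  by_contra hf
  have hX := VBLib.goodCurve_of_smooth (k := k) (X := X) hdim
  have hL1 := VBLib.ofRank_one_of_invertible hL
  have hM1 := VBLib.ofRank_one_of_invertible hM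
  obtain ⟨-, -, h⟩ := hX.line_hom (VBLib.isFinLocFree_of_ofRank hL1) (VBLib.isFinLocFree_of_ofRank hM1)
    (VBLib.rk_eq hL1) (VBLib.rk_eq hM1) f hf
  haveI := h (by rw [← VBLib.dg_eq hL1, ← VBLib.dg_eq hM1, hd])
  exact hne ⟨asIso f⟩

theorem deg_structure : Curv2.deg k X (Coh.structureModule X) 1 = 0 := by
  simp [Curv2.deg]

end Line

end Groth.Agent.AutCount27
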