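import Groth.Agent.AutCount27.FinLocal
import Mathlib.LinearAlgebra.Lagrange

/-!
# Conjugates of a root of an irreducible cubic over a finite field
-/

set_option autoImplicit false

open Polynomial

namespace Groth.Agent.AutCount27

variable {k : Type*} [Field k] [Finite k] {L : Type*} [Field L] [Algebra k L]

theorem mem_range_of_pow_card (x : L) (hx : x ^ Nat.card k = x) : x ∈ Set.range (algebraMap k L) := by
  classical
  cases nonempty_fintype k
  rw [Nat.card_eq_fintype_card] at hx
  by_contra hnot
  let f : L[X] := X ^ Fintype.card k - X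
  have h1 : (Finset.univ.image (algebraMap k L) ∪ {x}) ⊆ f.roots.toFinset := by
    intro y hy
    rw [Multiset.mem_toFinset, mem_roots (FiniteField.X_pow_card_sub_X_ne_zero L Fintype.one_lt_card)]
    rcases Finset.mem_union.1 hy with h | h
    · obtain ⟨c, -, rfl⟩ := Finset.mem_image.1 h
      simp [IsRoot, ← map_pow, FiniteField.pow_card]
    · rw [Finset.mem_singleton.1 h]
      simp [IsRoot, hx]
  have h2 := (Finset.card_le_card h1).trans ((Multiset.toFinset_card_le _).trans (card_roots' f))
  rw [FiniteField.X_pow_card_sub_X_natDegree_eq L Fintype.one_lt_card, Finset.card_union_of_disjoint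
    (Finset.disjoint_singleton_right.2 fun h => hnot (by
      obtain ⟨c, -, hc⟩ := Finset.mem_image.1 h
      exact ⟨c, hc⟩)),
    Finset.card_image_of_injective _ (algebraMap k L).injective, Finset.card_univ, Finset.card_singleton] at h2
  omega

variable {p : k[X]}

/-- The conjugates of a root. -/
theorem exists_conjugates (hpm : p.Monic) (hp : Irreducible p) (h3 : p.natDegree = 3)
    (hL : Module.finrank k L = 3) :
    ∃ l : Fin 3 → L, Function.Injective l ∧ (∀ i, l (i + 1) = l i ^ Nat.card k) ∧
      p.map (algebraMap k L) = ∏ i, (X - C (l i)) := by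
  haveI := Fact.mk hp
  haveI : Module.Finite k (AdjoinRoot p) := (AdjoinRoot.powerBasis hp.ne_zero).finite
  haveI : Finite (AdjoinRoot p) := Module.finite_of_finite k
  haveI : Module.Finite k L := Module.finite_of_finrank_eq_succ hL
  haveI : Finite L := Module.finite_of_finite k
  obtain ⟨f⟩ := FiniteField.nonempty_algHom_of_finrank_dvd (F := k) (K := AdjoinRoot p) (L := L)
    (by rw [hL, (AdjoinRoot.powerBasis hp.ne_zero).finrank, AdjoinRoot.powerBasis_dim, h3])
  let x := f (AdjoinRoot.root p)
  let q := Nat.card k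
  have hx : aeval x p = 0 := by
    rw [aeval_algHom_apply]
    simp
  have hroot : ∀ n : ℕ, aeval (x ^ q ^ n) p = 0 := fun n => by
    rw [← aeval_pow_card_pow, hx, zero_pow]
    exact pow_ne_zero _ Nat.card_pos.ne'
  have hcard : x ^ q ^ 3 = x := by
    have h : Nat.card L = q ^ 3 := hL ▸ Module.natCard_eq_pow_finrank (K := k) (V := L)
    cases nonempty_fintype L
    rw [← h, Nat.card_eq_fintype_card]
    exact FiniteField.pow_card x
  have h1 : x ^ q ≠ x := fun h => by
    obtain ⟨c, hc⟩ := mem_range_of_pow_card x h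
    have hd : p ∣ X - C c := dvd_of_aeval_eq_zero hp hx (by simp [hc])
    have := natDegree_le_of_dvd hd (X_sub_C_ne_zero c)
    rw [h3, natDegree_X_sub_C] at this
    omega
  have h2 : x ^ q ^ 2 ≠ x := fun h => by
    refine h1 ?_
    calc x ^ q = (x ^ q ^ 2) ^ q := by rw [h]
      _ = x ^ q ^ 3 := by rw [← pow_mul, ← pow_succ]
      _ = x := hcard
  let l : Fin 3 → L := ![x, x ^ q, x ^ q ^ 2]
  have hinj : Function.Injective l := by
    have h12 : x ^ q ≠ x ^ q ^ 2 := fun h => by
      refine h2 (Eq.symm ?_)
      calc x = x ^ q ^ 3 := hcard.symm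
        _ = (x ^ q ^ 2) ^ q := by rw [← pow_mul, ← pow_succ]
        _ = (x ^ q) ^ q := by rw [← h]
        _ = x ^ q ^ 2 := by rw [← pow_mul, pow_two]
    intro i j hij
    fin_cases i <;> fin_cases j <;> simp [l] at hij ⊢
    · exact h1 hij.symm
    · exact h2 hij.symm
    · exact h1 hij
    · exact h12 hij
    · exact h2 hij
    · exact h12 hij.symm
  refine ⟨l, hinj, fun i => ?_, ?_⟩
  · fin_cases i
    · simp [l, q]
    · simp [l, q, ← pow_mul, pow_two]
    · simp only [l]
      change x = (x ^ q ^ 2) ^ q
      rw [← pow_mul, ← pow_succ, hcard]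
  · classical
    refine eq_of_monic_of_dvd_of_natDegree_le (monic_prod_X_sub_C l Finset.univ) (hpm.map (algebraMap k L)) ?_ ?_
    · refine Finset.prod_dvd_of_coprime (fun i _ j _ hij => pairwise_coprime_X_sub_C hinj hij) fun i _ => ?_
      rw [dvd_iff_isRoot, IsRoot, eval_map_algebraMap]
      fin_cases i
      · exact hx
      · simpa [l] using hroot 1
      · simpa [l] using hroot 2
    · rw [natDegree_map, h3, natDegree_finsetProd_X_sub_C_eq_card, Finset.card_univ, Fintype.card_fin]

end Groth.Agent.AutCount27
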