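import Groth.Agent.FFCurve.Basic
import Groth.Agent.Omega.ProdDiff
import Groth.Agent.VBLib.Basic
import Groth.Prelude.Def_KLin
import Mathlib.RingTheory.Polynomial.GaussLemma
import Mathlib.LinearAlgebra.FiniteDimensional.Lemmas

/-!
# Fields of endomorphisms divide the rank
-/

set_option autoImplicit false
set_option linter.style.haveILetI false
universe u

open CategoryTheory AlgebraicGeometry
open Groth.Agent.PullStalk.Sky Groth.Agent.PullStalk.Exact
open scoped Polynomial

noncomputable section

namespace Groth.Agent.AutCount27

variable {k : Type u} [Field k] {X : Scheme.{u}} [IsIntegral X] [X.Over (Spec (CommRingCat.of k))]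

/-- The generic stalk, acted on by endomorphisms. -/
def genRep (E : X.Modules) :
    End E →+* Module.End (X.presheaf.stalk (genericPoint X)) (E.presheaf.stalk (genericPoint X)) where
  toFun f := stalkLin (End.asHom f) (genericPoint X)
  map_one' := LinearMap.ext fun t => Omega.ProdDiff.stalkLin_id _ t
  map_mul' f g := LinearMap.ext fun t => by
    obtain ⟨U, hx, m, rfl⟩ := exists_germM_eq E (genericPoint X) t
    change stalkLin (End.asHom g ≫ End.asHom f) _ _ = stalkLin (End.asHom f) _ (stalkLin (End.asHom g) _ _)
    rw [stalkLin_germ, stalkLin_germ, stalkLin_germ]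
    rfl
  map_zero' := LinearMap.ext fun t => by
    obtain ⟨U, hx, m, rfl⟩ := exists_germM_eq E (genericPoint X) t
    change stalkLin (0 : E ⟶ E) _ _ = 0
    rw [stalkLin_germ]
    exact map_zero (E.presheaf.germ U _ hx).hom
  map_add' f g := LinearMap.ext fun t => Omega.ProdDiff.stalkLin_add (End.asHom f) (End.asHom g) _ t

/-- Constants act by constants. -/
theorem genRep_algebraMap (E : X.Modules) (c : k) (t : E.presheaf.stalk (genericPoint X)) :
    genRep E (algebraMap k (End E) c) t =
      (show X.presheaf.stalk (genericPoint X) from CurveCoh.kFun (X := X) k c) • t := by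
  obtain ⟨U, hx, m, rfl⟩ := exists_germM_eq E (genericPoint X) t
  change stalkLin (c • 𝟙 E) (genericPoint X) _ = _
  rw [stalkLin_germ, KLin.smul_app_apply, germM_smul]
  exact congrArg (· • _) (CurveCoh.germ_kMap k U hx c)

variable [Finite k] [IsProper (X ↘ Spec (CommRingCat.of k))]
  [GeometricallyIntegral (X ↘ Spec (CommRingCat.of k))]

/-- Irreducible polynomials over the constants stay irreducible over the function field. -/
theorem irreducible_map_functionField {p : k[X]} (hpm : p.Monic) (hp : Irreducible p) :
    Irreducible (p.map (algebraMap k X.functionField)) := by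
  have hu : ¬ IsUnit (p.map (algebraMap k X.functionField)) := fun h => by
    have := Polynomial.natDegree_eq_zero_of_isUnit h
    rw [Polynomial.natDegree_map] at this
    exact hp.natDegree_pos.ne' this
  obtain ⟨q, hqm, hq, hdvd⟩ := Polynomial.exists_monic_irreducible_factor _ hu
  have hl := integralClosure.mem_lifts_of_monic_of_dvd_map X.functionField hpm hqm hdvd
  have hl' : q ∈ Polynomial.lifts (algebraMap k X.functionField) := by
    rw [Polynomial.lifts_iff_coeff_lifts]
    intro n
    obtain ⟨a, ha⟩ := (Polynomial.lifts_iff_coeff_lifts _).1 hl n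
    rw [← ha]
    exact FFCurve.constants k _ (a.2.isAlgebraic)
  obtain ⟨q₀, hq₀⟩ := Polynomial.mem_lifts q |>.1 hl'
  have hd0 : q₀ ∣ p := (Polynomial.map_dvd_map' (algebraMap k X.functionField)).1 (hq₀ ▸ hdvd)
  obtain ⟨r, hr⟩ := hd0
  rcases hp.isUnit_or_isUnit hr with h | h
  · exact absurd (hq₀ ▸ h.map (Polynomial.mapRingHom (algebraMap k X.functionField))) hq.not_isUnit
  · rw [hr, Polynomial.map_mul]
    exact (irreducible_mul_isUnit (h.map (Polynomial.mapRingHom (algebraMap k X.functionField)))).2 (hq₀ ▸ hq)

/-- The degree of an algebraic endomorphism divides the rank. -/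
theorem natDegree_dvd_rk {E : X.Modules}
    {p : k[X]} (hpm : p.Monic) (hp : Irreducible p) {α : End E} (hα : Polynomial.aeval α p = 0) :
    p.natDegree ∣ VBLib.rk E := by
  let F := X.presheaf.stalk (genericPoint X)
  letI : Field F := inferInstanceAs (Field X.functionField)
  let V := E.presheaf.stalk (genericPoint X)
  let ι : k →+* F := algebraMap k X.functionField
  let p' : F[X] := p.map ι
  have hp' : Irreducible p' := irreducible_map_functionField hpm hp
  let T : Module.End F V := genRep E α
  have hT : Polynomial.aeval T p' = 0 := by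
    have hcomp : (genRep E).comp (algebraMap k (End E)) = (algebraMap F (Module.End F V)).comp ι :=
      RingHom.ext fun c => LinearMap.ext fun t => (genRep_algebraMap E c t).trans rfl
    rw [Polynomial.aeval_def, Polynomial.eval₂_map, ← hcomp, ← Polynomial.hom_eval₂, ← Polynomial.aeval_def,
      hα, map_zero]
  let I : Ideal F[X] := Ideal.span {p'}
  haveI : I.IsMaximal := PrincipalIdealRing.isMaximal_of_irreducible hp'
  letI : Field (F[X] ⧸ I) := Ideal.Quotient.field I
  let φ : F[X] ⧸ I →+* Module.End F V :=
    Ideal.Quotient.lift I (Polynomial.aeval T).toRingHom fun a ha => by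
      obtain ⟨b, rfl⟩ := Ideal.mem_span_singleton.1 ha
      change Polynomial.aeval T (p' * b) = 0
      rw [map_mul, hT, zero_mul]
  letI : Module (F[X] ⧸ I) V := Module.compHom V φ
  haveI : IsScalarTower F (F[X] ⧸ I) V := ⟨fun a y v => by
    induction y using Submodule.Quotient.induction_on with
    | _ y =>
      change Polynomial.aeval T (a • y) v = a • Polynomial.aeval T y v
      rw [map_smul]
      rfl⟩
  have h := Module.finrank_mul_finrank F (F[X] ⧸ I) V
  rw [finrank_quotient_span_eq_natDegree] at h
  rw [VBLib.rk]
  exact ⟨_, (h.trans rfl).symm.trans (by rw [Polynomial.natDegree_map])⟩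

end Groth.Agent.AutCount27
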