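import Groth.Agent.S18781
import Groth.Agent.AutCount27.CubicAlg
import Groth.Agent.AutCount27.GenDeg

/-!
# Indecomposable, not geometrically indecomposable bundles of rank three on a curve over a finite field
-/

set_option autoImplicit false
set_option linter.style.haveILetI false
set_option backward.isDefEq.respectTransparency.types false
universe u

open CategoryTheory CategoryTheory.Limits AlgebraicGeometry
open Groth.Agent.VBLib Groth.Agent.PullStalk.Sky Groth.Agent.PullStalk.Exact
open Groth.Agent.S18781 (Φ PE eq_zero_of_sum mem_span_Φ)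
open scoped Polynomial

noncomputable section

namespace Groth.Agent.AutCount27

section Rank

variable {Y : Scheme.{u}} [IsIntegral Y] [IsLocallyNoetherian Y]

/-- Additivity of the generic rank along a system of orthogonal idempotents. -/
theorem rk_eq_sum {n : ℕ} {P : Y.Modules} (hP : FlatMod.IsFinLocFree P) (M : Fin n → Y.Modules)
    (i : ∀ a, M a ⟶ P) (q : ∀ a, P ⟶ M a) (hiq : ∀ a, i a ≫ q a = 𝟙 _)
    (hne : ∀ a b, a ≠ b → i a ≫ q b = 0) (htot : ∑ a, q a ≫ i a = 𝟙 P) :
    rk P = ∑ a, rk (M a) := by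
  classical
  let η := genericPoint Y
  have hfin : ∀ a, Module.Finite (Y.presheaf.stalk η) ((M a).presheaf.stalk η) := fun a =>
    finite_stalk (isCoh_of_isFinLocFree (KSMod.isFinLocFree_of_retract (i a) (q a) (hiq a) hP)) η
  have hc : ∀ {A B C : Y.Modules} (f : A ⟶ B) (g : B ⟶ C) (t : A.presheaf.stalk η),
      stalkLin g η (stalkLin f η t) = stalkLin (f ≫ g) η t := fun f g t => by
    obtain ⟨U, hx, m, rfl⟩ := exists_germM_eq _ η t
    rw [stalkLin_germ, stalkLin_germ, stalkLin_germ]
    rfl
  have hsum : ∀ {A B : Y.Modules} (s : Finset (Fin n)) (f : Fin n → (A ⟶ B)) (t : A.presheaf.stalk η),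
      stalkLin (∑ a ∈ s, f a) η t = ∑ a ∈ s, stalkLin (f a) η t := fun s f t => by
    induction s using Finset.induction with
    | empty =>
      simp only [Finset.sum_empty]
      obtain ⟨U, hx, m, rfl⟩ := exists_germM_eq _ η t
      rw [stalkLin_germ]
      exact map_zero (Scheme.Modules.presheaf _ |>.germ U η hx).hom
    | insert a s ha ih => rw [Finset.sum_insert ha, Finset.sum_insert ha, Omega.ProdDiff.stalkLin_add, ih]
  have h0 : ∀ {A B : Y.Modules} (t : A.presheaf.stalk η), stalkLin (0 : A ⟶ B) η t = 0 := fun {A B} t => by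
    have := hsum (∅ : Finset (Fin n)) (fun _ => (0 : A ⟶ B)) t
    simpa using this
  let Ψ : P.presheaf.stalk η →ₗ[Y.presheaf.stalk η] ∀ a, (M a).presheaf.stalk η :=
    LinearMap.pi fun a => stalkLin (q a) η
  have hbij : Function.Bijective Ψ := by
    constructor
    · intro s t hst
      rw [← Omega.ProdDiff.stalkLin_id η s, ← Omega.ProdDiff.stalkLin_id η t, ← htot, hsum, hsum]
      refine Finset.sum_congr rfl fun a _ => ?_
      rw [← hc, ← hc]
      exact congrArg _ (congrFun hst a)
    · intro v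
      refine ⟨∑ a, stalkLin (i a) η (v a), funext fun b => ?_⟩
      change stalkLin (q b) η _ = v b
      rw [map_sum, Finset.sum_eq_single b]
      · rw [hc, hiq, Omega.ProdDiff.stalkLin_id]
      · intro a _ hab
        rw [hc, hne a b hab, h0]
      · simp
  haveI := hfin
  letI : Field (Y.presheaf.stalk η) := inferInstanceAs (Field Y.functionField)
  rw [rk, (LinearEquiv.ofBijective Ψ hbij).finrank_eq]
  exact Module.finrank_pi_fintype _

end Rank

variable {k : Type u} [Field k] [Finite k] {X : Scheme.{u}} [X.Over (Spec (CommRingCat.of k))]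
  [IsProper (X ↘ Spec (CommRingCat.of k))] [Smooth (X ↘ Spec (CommRingCat.of k))]
  [GeometricallyIntegral (X ↘ Spec (CommRingCat.of k))]

/-- A nonlinear irreducible cubic has a root among the endomorphisms. -/
theorem exists_cubic_root {E : X.Modules} (hE : FlatMod.IsFinLocFreeOfRank 3 E) (hind : KSMod.Indec E)
    (K : Type u) [Field K] [Algebra k K] (E₁ E₂ : (Curv2.bc k X K).Modules)
    (hE₁ : ¬ IsZero E₁) (hE₂ : ¬ IsZero E₂)
    (e : (Scheme.Modules.pullback (Curv2.bcFst k X K)).obj E ≅ E₁ ⊞ E₂) :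
    ∃ (p : k[X]) (α : End E), p.Monic ∧ Irreducible p ∧ p.natDegree = 3 ∧ Polynomial.aeval α p = 0 := by
  haveI : GeometricallyConnected (X ↘ Spec (CommRingCat.of k)) :=
    FBase.BC.geometricallyConnected_of_geometricallyIrreducible _
  haveI : IsIntegral X := CurveCoh.isIntegral_of_smooth k X
  have hEc := isCoh_of_ofRank hE
  haveI := KSMod.isArtinianRing_end k (X ↘ Spec (CommRingCat.of k)) E hEc
  haveI : IsLocalRing (End E) := hind.isLocalRing
  haveI := S18781.finite_end k hEc
  let π : (Scheme.Modules.pullback (Curv2.bcFst k X K)).obj E ⟶ (Scheme.Modules.pullback (Curv2.bcFst k X K)).obj E :=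
    e.hom ≫ biprod.fst ≫ biprod.inl ≫ e.inv
  obtain hsc | ⟨p, α, hpm, hp, hp2, hα⟩ := scalar_or_exists_root (A := End E) (k := k)
  · exfalso
    rcases S18781.idem_trivial k K hEc hsc (End.of π) (show π ≫ π = π by simp [π]) with h | h
    · refine hE₁ ((IsZero.iff_id_eq_zero _).2 ?_)
      have h' := congrArg (fun t => biprod.inl ≫ e.inv ≫ t ≫ e.hom ≫ biprod.fst) (show π = 0 from h)
      simpa [π] using h'
    · refine hE₂ ((IsZero.iff_id_eq_zero _).2 ?_)
      have h' := congrArg (fun t => biprod.inr ≫ e.inv ≫ t ≫ e.hom ≫ biprod.snd) (show π = 𝟙 _ from h)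
      simpa [π] using h'.symm
  · refine ⟨p, α, hpm, hp, ?_, hα⟩
    have hd := natDegree_dvd_rk hpm hp hα
    rw [rk_eq hE, Nat.dvd_prime Nat.prime_three] at hd
    omega

variable (hdim : topologicalKrullDim X = 1) {E : X.Modules} (hE : FlatMod.IsFinLocFreeOfRank 3 E)
  (hind : KSMod.Indec E)
include hdim hE hind

theorem cubic_main (K : Type u) [Field K] [Algebra k K] (E₁ E₂ : (Curv2.bc k X K).Modules)
    (hE₁ : ¬ IsZero E₁) (hE₂ : ¬ IsZero E₂)
    (e : (Scheme.Modules.pullback (Curv2.bcFst k X K)).obj E ≅ E₁ ⊞ E₂)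
    (k₃ : Type u) [Field k₃] [Algebra k k₃] (hk₃ : Module.finrank k k₃ = 3) :
    (∃ (M : Fin 3 → (Curv2.bc k X k₃).Modules), (∀ i, PicF.IsInvertible (M i)) ∧
      Nonempty ((Scheme.Modules.pullback (Curv2.bcFst k X k₃)).obj E ≅ ∐ M) ∧
      (∀ i j, i ≠ j → ¬ Nonempty (M i ≅ M j)) ∧
      (∀ (i : Fin 3) (L : X.Modules), PicF.IsInvertible L →
        ¬ Nonempty (M i ≅ (Scheme.Modules.pullback (Curv2.bcFst k X k₃)).obj L))) ∧
      ∃ (p : k[X]) (ψ : AdjoinRoot p →+* End E), p.Monic ∧ Irreducible p ∧ p.natDegree = 3 ∧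
        Function.Bijective ψ := by
  classical
  obtain ⟨p, α, hpm, hp, h3, hα⟩ := exists_cubic_root hE hind K E₁ E₂ hE₁ hE₂ e
  clear hE₁ hE₂ e E₁ E₂
  haveI : GeometricallyConnected (X ↘ Spec (CommRingCat.of k)) :=
    FBase.BC.geometricallyConnected_of_geometricallyIrreducible _
  haveI : IsIntegral X := CurveCoh.isIntegral_of_smooth k X
  have hEc := isCoh_of_ofRank hE
  haveI := KSMod.isArtinianRing_end k (X ↘ Spec (CommRingCat.of k)) E hEc
  haveI : IsLocalRing (End E) := hind.isLocalRing
  haveI := S18781.finite_end k hEc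
  obtain ⟨l, hl, hlq, hfac⟩ := exists_conjugates hpm hp h3 hk₃
  letI : (Curv2.bc k X k₃).Over (Spec (CommRingCat.of k₃)) := ⟨Curv2.bcSnd k X k₃⟩
  haveI : IsProper ((Curv2.bc k X k₃) ↘ Spec (CommRingCat.of k₃)) :=
    (inferInstance : IsProper (pullback.snd (X ↘ Spec (CommRingCat.of k))
      (Spec.map (CommRingCat.ofHom (algebraMap k k₃)))))
  haveI : Smooth ((Curv2.bc k X k₃) ↘ Spec (CommRingCat.of k₃)) :=
    (inferInstance : Smooth (pullback.snd (X ↘ Spec (CommRingCat.of k))
      (Spec.map (CommRingCat.ofHom (algebraMap k k₃)))))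
  haveI : GeometricallyIntegral ((Curv2.bc k X k₃) ↘ Spec (CommRingCat.of k₃)) :=
    (inferInstance : GeometricallyIntegral (pullback.snd (X ↘ Spec (CommRingCat.of k))
      (Spec.map (CommRingCat.ofHom (algebraMap k k₃)))))
  haveI : IsIntegral (Curv2.bc k X k₃) := inferInstance
  have hdK : topologicalKrullDim (Curv2.bc k X k₃) = 1 :=
    (S4642.result (K := k₃) (X ↘ Spec (CommRingCat.of k))).trans hdim
  have hXK := goodCurve_of_smooth (k := k₃) (X := Curv2.bc k X k₃) hdK
  haveI := hXK.isLocallyNoetherian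
  let R := End (PE (k := k) k₃ E)
  let a : R := Φ k k₃ α
  have hcomp : (Φ k k₃ (E := E)).comp (algebraMap k (End E)) = (algebraMap k₃ R).comp (algebraMap k k₃) :=
    RingHom.ext fun c => S18781.Φ_algebraMap k₃ c
  have hprod : Polynomial.aeval a (∏ i, (Polynomial.X - Polynomial.C (l i))) = 0 := by
    rw [← hfac, Polynomial.aeval_def, Polynomial.eval₂_map, ← hcomp, ← Polynomial.hom_eval₂,
      ← Polynomial.aeval_def, hα, map_zero]
  have hval : ∀ f g : k₃[X], (∀ i, f.eval (l i) = g.eval (l i)) → Polynomial.aeval a f = Polynomial.aeval a g := by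
    intro f g hfg
    have hd : (∏ i, (Polynomial.X - Polynomial.C (l i))) ∣ f - g :=
      Finset.prod_dvd_of_coprime (fun i _ j _ hij => Polynomial.pairwise_coprime_X_sub_C hl hij) fun i _ =>
        Polynomial.dvd_iff_isRoot.2 (by simp [hfg i])
    obtain ⟨c, hc⟩ := hd
    rw [← sub_eq_zero, ← map_sub, hc, map_mul, hprod, zero_mul]
  let L : Fin 3 → k₃[X] := Lagrange.basis Finset.univ l
  have hLs : ∀ i, (L i).eval (l i) = 1 := fun i => Lagrange.eval_basis_self hl.injOn (Finset.mem_univ i)
  have hLn : ∀ i j, i ≠ j → (L i).eval (l j) = 0 := fun i j h => Lagrange.eval_basis_of_ne h (Finset.mem_univ j)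
  let ε : Fin 3 → R := fun i => Polynomial.aeval a (L i)
  have hεε : ∀ i, ε i * ε i = ε i := fun i => by
    rw [← map_mul]
    refine hval _ _ fun j => ?_
    rcases eq_or_ne i j with rfl | h
    · simp [hLs]
    · simp [hLn i j h]
  have hεn : ∀ i j, i ≠ j → ε i * ε j = 0 := fun i j h => by
    rw [← map_mul, ← map_zero (Polynomial.aeval (R := k₃) a)]
    refine hval _ _ fun m => ?_
    rcases eq_or_ne i m with rfl | h'
    · simp [hLn j i h.symm]
    · simp [hLn i m h']
  have hεt : ∑ i, ε i = 1 := by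
    rw [← map_sum, show (∑ i, L i) = 1 from Lagrange.sum_basis hl.injOn Finset.univ_nonempty, map_one]
  have haε : ∀ i, a * ε i = l i • ε i ∧ ε i * a = l i • ε i := fun i => by
    have h : Polynomial.aeval a (Polynomial.X * L i) = Polynomial.aeval a (Polynomial.C (l i) * L i) :=
      hval _ _ fun j => by
        rcases eq_or_ne i j with rfl | h
        · simp
        · simp [hLn i j h]
    have h' := h
    rw [map_mul, map_mul, Polynomial.aeval_X, Polynomial.aeval_C, ← Algebra.smul_def] at h
    rw [mul_comm Polynomial.X, map_mul, map_mul, Polynomial.aeval_X, Polynomial.aeval_C, ← Algebra.smul_def] at h'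
    exact ⟨h, h'⟩
  have hEig : ∀ (f : k₃[X]) (z : R) (c : k₃), a * z = c • z → Polynomial.aeval a f * z = f.eval c • z := by
    intro f z c hz
    induction f using Polynomial.induction_on' with
    | add f g hf hg => rw [map_add, add_mul, hf, hg, Polynomial.eval_add, add_smul]
    | monomial n r =>
      rw [Polynomial.aeval_monomial, Polynomial.eval_monomial, mul_assoc, ← Algebra.smul_def, mul_smul]
      congr 1
      induction n with
      | zero => simp
      | succ n ih => rw [pow_succ a, mul_assoc, hz, mul_smul_comm, ih, smul_smul, ← pow_succ']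
  have hEig' : ∀ (f : k₃[X]) (z : R) (c : k₃), z * a = c • z → z * Polynomial.aeval a f = f.eval c • z := by
    intro f z c hz
    induction f using Polynomial.induction_on' with
    | add f g hf hg => rw [map_add, mul_add, hf, hg, Polynomial.eval_add, add_smul]
    | monomial n r =>
      rw [Polynomial.aeval_monomial, Polynomial.eval_monomial, ← Algebra.smul_def, mul_smul_comm, mul_smul]
      congr 1
      induction n with
      | zero => simp
      | succ n ih => rw [pow_succ a, ← mul_assoc, ih, smul_mul_assoc, hz, smul_smul, ← pow_succ]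
  have hli : LinearIndependent k ![1, α, α * α] := by
    rw [Fintype.linearIndependent_iff]
    intro c hc
    have hdvd : p ∣ Polynomial.C (c 0) + Polynomial.C (c 1) * Polynomial.X + Polynomial.C (c 2) * Polynomial.X ^ 2 := by
      refine dvd_of_aeval_eq_zero hp hα ?_
      simpa [Fin.sum_univ_three, Algebra.smul_def, pow_two] using hc
    have h0 := Polynomial.eq_zero_of_dvd_of_natDegree_lt hdvd (by
      refine lt_of_le_of_lt (b := 2) ?_ (by omega)
      compute_degree)
    intro i
    fin_cases i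
    · simpa using congrArg (Polynomial.coeff · 0) h0
    · simpa using congrArg (Polynomial.coeff · 1) h0
    · simpa using congrArg (Polynomial.coeff · 2) h0
  have hεne : ∀ i, ε i ≠ 0 := fun i hi => by
    have hdeg : (L i).natDegree = 2 := by
      rw [Lagrange.natDegree_basis hl.injOn (Finset.mem_univ i), Finset.card_univ, Fintype.card_fin]
    have h0 := eq_zero_of_sum k k₃ hEc _ hli (fun j => (L i).coeff j) (by
      rw [← hi]
      change _ = Polynomial.aeval a (L i)
      rw [Polynomial.aeval_eq_sum_range, hdeg]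
      simp only [Fin.sum_univ_three, Finset.sum_range_succ, Finset.sum_range_zero, zero_add, Matrix.cons_val_zero,
        Matrix.cons_val_one, Matrix.cons_val, map_one, map_mul, pow_zero, pow_one, pow_two, a]
      rfl)
    have h2 := congrFun h0 2
    have : (L i).leadingCoeff ≠ 0 := Polynomial.leadingCoeff_ne_zero.2 fun h => by simp [h] at hdeg
    exact this (by rw [Polynomial.leadingCoeff, hdeg]; exact h2)
  -- the Galois symmetry
  haveI : Module.Finite k (E ⟶ E) := haveI : Finite (E ⟶ E) := S18781.finite_end k hEc; Module.Finite.of_finite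
  let b := Module.finBasis k (E ⟶ E)
  obtain ⟨bK, hbK⟩ := ShStabLib.BC.exists_basis_pullHom k k₃ E E hEc hEc b
  letI := Fintype.ofFinite k
  let τ : k₃ →+* k₃ := (FiniteField.frobeniusAlgHom k k₃).toRingHom
  have hτ : ∀ x : k₃, τ x = x ^ Nat.card k := fun x => by
    simp [τ, FiniteField.frobeniusAlgHom, Nat.card_eq_fintype_card]
  let T : R → R := fun z => ∑ j, τ (bK.repr z j) • bK j
  have Tadd : ∀ y z, T (y + z) = T y + T z := fun y z => by
    simp only [T, map_add, Finsupp.add_apply, add_smul, Finset.sum_add_distrib]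
  have Tsmul : ∀ (c : k₃) z, T (c • z) = τ c • T z := fun c z => by
    simp only [T, map_smul, Finsupp.smul_apply, smul_eq_mul, map_mul, Finset.smul_sum, smul_smul]
  have T0 : T 0 = 0 := by simp [T]
  have TΦ : ∀ u : End E, T (Φ k k₃ u) = Φ k k₃ u := fun u => by
    have hu : Φ k k₃ u = ∑ j, algebraMap k k₃ (b.repr u j) • bK j := by
      conv_lhs => rw [show u = ∑ j, b.repr u j • b j from (b.sum_repr u).symm]
      change ShStabLib.BC.pullHom k k₃ E E (∑ j, b.repr u j • b j) = _
      rw [map_sum]
      exact Finset.sum_congr rfl fun j _ => by rw [map_smulₛₗ, hbK]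
    rw [hu]
    simp only [T]
    refine Finset.sum_congr rfl fun j _ => ?_
    rw [bK.repr_sum_self]
    exact congrArg (· • bK j) ((FiniteField.frobeniusAlgHom k k₃).commutes _)
  have Tmul : ∀ y z, T (y * z) = T y * T z := by
    intro y z
    refine Submodule.span_induction (p := fun y _ => T (y * z) = T y * T z) ?_ ?_ ?_ ?_ (mem_span_Φ k k₃ hEc y)
    · rintro _ ⟨u, rfl⟩
      refine Submodule.span_induction (p := fun z _ => T (Φ k k₃ u * z) = T (Φ k k₃ u) * T z) ?_ ?_ ?_ ?_
        (mem_span_Φ k k₃ hEc z)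
      · rintro _ ⟨v, rfl⟩
        rw [← map_mul, TΦ, TΦ, TΦ, map_mul]
      · simp [T0]
      · intro s t _ _ hs ht
        rw [mul_add, Tadd, hs, ht, Tadd, mul_add]
      · intro c s _ hs
        rw [mul_smul_comm, Tsmul, hs, Tsmul, mul_smul_comm]
    · simp [T0]
    · intro s t _ _ hs ht
      rw [add_mul, Tadd, hs, ht, Tadd, add_mul]
    · intro c s _ hs
      rw [smul_mul_assoc, Tsmul, hs, Tsmul, smul_mul_assoc]
  have Tinj : ∀ z, T z = 0 → z = 0 := fun z hz => by
    refine bK.ext_elem fun j => ?_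
    have h := congrArg (fun w => bK.repr w j) hz
    simp only [T, bK.repr_sum_self, map_zero, Finsupp.zero_apply] at h
    rw [map_zero, Finsupp.zero_apply]
    exact (map_eq_zero τ).1 h
  -- the summands
  have hsp : ∀ i, ∃ (M : (Curv2.bc k X k₃).Modules) (ι : M ⟶ PE (k := k) k₃ E) (π : PE (k := k) k₃ E ⟶ M),
      ι ≫ π = 𝟙 M ∧ π ≫ ι = End.asHom (ε i) := fun i => by
    obtain ⟨P', Q', ι, π, i', q', hιπ, hπι, -, -, -⟩ :=
      KSMod.exists_split (End.asHom (ε i)) (hεε i)
    exact ⟨P', ι, π, hιπ, hπι⟩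
  choose M ι π hιπ hπι using hsp
  have hιε : ∀ i, ι i ≫ End.asHom (ε i) = ι i := fun i => by rw [← hπι, reassoc_of% hιπ i]
  have hεπ : ∀ i, End.asHom (ε i) ≫ π i = π i := fun i => by rw [← hπι, Category.assoc, hιπ, Category.comp_id]
  have hne : ∀ i j, i ≠ j → ι i ≫ π j = 0 := fun i j h => by
    rw [← hιε, ← hεπ j, Category.assoc, ← Category.assoc (End.asHom (ε i)),
      show End.asHom (ε i) ≫ End.asHom (ε j) = 0 from hεn j i h.symm, zero_comp, comp_zero]
  have htot : ∑ i, π i ≫ ι i = 𝟙 (PE (k := k) k₃ E) := by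
    rw [Finset.sum_congr rfl fun i _ => hπι i]
    exact hεt
  have hMz : ∀ i, ¬ IsZero (M i) := fun i h => hεne i (by
    change End.asHom (ε i) = 0
    rw [← hπι, h.eq_of_tgt (π i) 0, zero_comp])
  have hPl : FlatMod.IsFinLocFreeOfRank 3 (PE (k := k) k₃ E) := CycLib.ProjBdl.isFinLocFreeOfRank_pullback _ hE
  have hMl : ∀ i, FlatMod.IsFinLocFree (M i) := fun i =>
    KSMod.isFinLocFree_of_retract (ι i) (π i) (hιπ i) (isFinLocFree_of_ofRank hPl)
  have hMr : ∀ i, rk (M i) = 1 := by
    have hs := rk_eq_sum (isFinLocFree_of_ofRank hPl) M ι π hιπ hne htot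
    rw [rk_eq hPl, Fin.sum_univ_three] at hs
    have hpos : ∀ i, rk (M i) ≠ 0 := fun i h => hMz i (isZero_of_rk_eq_zero (hMl i) h)
    have := hpos 0
    have := hpos 1
    have := hpos 2
    intro i
    rcases (by decide : ∀ j : Fin 3, j = 0 ∨ j = 1 ∨ j = 2) i with rfl | rfl | rfl <;> omega
  have hMi : ∀ i, PicF.IsInvertible (M i) := fun i => LineCalc.isInvertible_of_rk_one (hMl i) (hMr i)
  have hsc : ∀ i (φ : M i ⟶ M i), ∃ c : k₃, φ = c • 𝟙 (M i) :=
    fun i φ => (scalHom_bijective (k := k₃) (hMi i)).2 φ |>.imp fun c hc => hc.symm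
  have hn1 : ∀ i, 𝟙 (M i) ≠ (0 : M i ⟶ M i) := fun i h => hMz i ((IsZero.iff_id_eq_zero _).2 h)
  -- components
  have hshift : ∀ i j, (∃ f : M i ⟶ M j, f ≠ 0) → ∃ f : M (i + 1) ⟶ M (j + 1), f ≠ 0 := by
    rintro i j ⟨f, hf⟩
    let y : R := End.of (π i ≫ f ≫ ι j)
    have hy0 : y ≠ 0 := fun h => hf (by
      have := congrArg (fun t => ι i ≫ t ≫ π j) (show π i ≫ f ≫ ι j = 0 from h)
      simpa [reassoc_of% hιπ i, hιπ j] using this)
    have hy1 : ε j * y = y := by
      change (π i ≫ f ≫ ι j) ≫ End.asHom (ε j) = π i ≫ f ≫ ι j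
      rw [Category.assoc, Category.assoc, hιε]
    have hy2 : y * ε i = y := by
      change End.asHom (ε i) ≫ π i ≫ f ≫ ι j = π i ≫ f ≫ ι j
      rw [reassoc_of% hεπ i]
    have ha1 : a * y = l j • y := by
      calc a * y = a * (ε j * y) := by rw [hy1]
        _ = _ := by rw [← mul_assoc, (haε j).1, smul_mul_assoc, hy1]
    have ha2 : y * a = l i • y := by
      calc y * a = (y * ε i) * a := by rw [hy2]
        _ = _ := by rw [mul_assoc, (haε i).2, mul_smul_comm, hy2]
    have hb1 : a * T y = l (j + 1) • T y := by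
      calc a * T y = T a * T y := by rw [show T a = a from TΦ α]
        _ = T (a * y) := (Tmul _ _).symm
        _ = _ := by rw [ha1, Tsmul, hτ, ← hlq]
    have hb2 : T y * a = l (i + 1) • T y := by
      calc T y * a = T y * T a := by rw [show T a = a from TΦ α]
        _ = T (y * a) := (Tmul _ _).symm
        _ = _ := by rw [ha2, Tsmul, hτ, ← hlq]
    have hc1 : ε (j + 1) * T y = T y := by rw [hEig _ _ _ hb1, hLs, one_smul]
    have hc2 : T y * ε (i + 1) = T y := by rw [hEig' _ _ _ hb2, hLs, one_smul]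
    refine ⟨ι (i + 1) ≫ End.asHom (T y) ≫ π (j + 1), fun h => hy0 (Tinj y ?_)⟩
    rw [← hc1, ← hc2]
    change (End.asHom (ε (i + 1)) ≫ End.asHom (T y)) ≫ End.asHom (ε (j + 1)) = 0
    rw [← hπι, ← hπι]
    simpa using congrArg (fun t => π (i + 1) ≫ t ≫ ι (j + 1)) h
  have hzero : ∀ i j, i ≠ j → ∀ f : M i ⟶ M j, f = 0 := by
    intro i j hij f
    by_contra hf
    let d := j - i
    have hd : ∀ m, ∃ g : M m ⟶ M (m + d), g ≠ 0 := by
      have h0 : ∃ g : M i ⟶ M (i + d), g ≠ 0 := by
        rw [show i + d = j from add_sub_cancel i j]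
        exact ⟨f, hf⟩
      have h1 := hshift _ _ h0
      have h2 := hshift _ _ h1
      intro m
      have hm : m = i ∨ m = i + 1 ∨ m = i + 1 + 1 :=
        (by decide : ∀ i m : Fin 3, m = i ∨ m = i + 1 ∨ m = i + 1 + 1) i m
      rcases hm with rfl | rfl | rfl
      · exact h0
      · rw [add_right_comm]; exact h1
      · rw [add_right_comm _ 1 d, add_right_comm i 1 d]; exact h2
    have hd0 : d ≠ 0 := sub_ne_zero.2 hij.symm
    have hle : ∀ m, dg k₃ (M m) ≤ dg k₃ (M (m + d)) := fun m => by
      obtain ⟨g, hg⟩ := hd m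
      exact (hXK.line_hom (hMl _) (hMl _) (hMr _) (hMr _) g hg).2.1
    have hiso : ∀ m, Nonempty (M m ≅ M (m + d)) := fun m => by
      obtain ⟨g, hg⟩ := hd m
      have h3' : m + d + d + d = m := (by decide : ∀ m d : Fin 3, m + d + d + d = m) m d
      have e1 := hle (m + d)
      have e2 := hle (m + d + d)
      rw [h3'] at e2
      haveI := (hXK.line_hom (hMl _) (hMl _) (hMr _) (hMr _) g hg).2.2 (le_antisymm (hle m) (e1.trans e2))
      exact ⟨asIso g⟩
    have hall : ∀ m n, Nonempty (M m ≅ M n) := fun m n => by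
      have hn : n = m ∨ n = m + d ∨ n = m + d + d :=
        (by decide : ∀ d m n : Fin 3, d ≠ 0 → n = m ∨ n = m + d ∨ n = m + d + d) d m n hd0
      rcases hn with rfl | rfl | rfl
      · exact ⟨Iso.refl _⟩
      · exact hiso m
      · exact ⟨(hiso m).some ≪≫ (hiso (m + d)).some⟩
    by_cases hx : ∃ x : End E, x ≠ 0 ∧ ¬ IsUnit x
    · obtain ⟨x, hx0, hxx⟩ := exists_annihilated hx
      have hY : ∀ Y : R, Φ k k₃ x * Y * Φ k k₃ x = 0 := by
        intro Y
        refine Submodule.span_induction (p := fun Y _ => Φ k k₃ x * Y * Φ k k₃ x = 0) ?_ ?_ ?_ ?_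
          (mem_span_Φ k k₃ hEc Y)
        · rintro _ ⟨c, rfl⟩
          rw [← map_mul, ← map_mul, hxx, map_zero]
        · rw [mul_zero, zero_mul]
        · intro s t _ _ hs ht
          rw [mul_add, add_mul, hs, ht, add_zero]
        · intro c s _ hs
          rw [mul_smul_comm, smul_mul_assoc, hs, smul_zero]
      let F : PE (k := k) k₃ E ⟶ PE (k := k) k₃ E := Φ k k₃ x
      have hblock : ∀ m n, ι m ≫ F ≫ π n = 0 := fun m n => by
        obtain ⟨w⟩ := hall m n
        refine S18781.eq_zero_of_sq (hsc m) (hn1 m) w _ ?_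
        have h : F ≫ (π n ≫ w.inv ≫ ι m) ≫ F = 0 := hY (End.of (π n ≫ w.inv ≫ ι m))
        simpa using congrArg (fun t => ι m ≫ t ≫ π n) h
      have hF : F = 0 := by
        calc F = (∑ m, π m ≫ ι m) ≫ F ≫ (∑ n, π n ≫ ι n) := by rw [htot, Category.id_comp, Category.comp_id]
          _ = 0 := by
            rw [Preadditive.sum_comp]
            refine Finset.sum_eq_zero fun m _ => ?_
            rw [Preadditive.comp_sum, Preadditive.comp_sum]
            refine Finset.sum_eq_zero fun n _ => ?_
            rw [Category.assoc, ← Category.assoc F, ← Category.assoc (ι m), hblock m n, zero_comp, comp_zero]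
      exact one_ne_zero (congrFun (eq_zero_of_sum k k₃ hEc ![x]
        (Fintype.linearIndependent_iff.2 fun c hc i => by
          fin_cases i
          simpa [hx0] using hc) ![1] (by simp [show Φ k k₃ x = 0 from hF])) 0)
    · push Not at hx
      letI : DivisionRing (End E) := DivisionRing.ofIsUnitOrEqZero fun c => or_iff_not_imp_right.2 (hx c)
      have hcomm : ∀ u v : End E, u * v = v * u := (littleWedderburn (End E)).mul_comm
      have h0 : ∀ y : R, y * ε i = ε i * y := fun y => by
        refine Submodule.span_induction (p := fun y _ => y * ε i = ε i * y) ?_ ?_ ?_ ?_ (mem_span_Φ k k₃ hEc y)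
        · rintro _ ⟨u, rfl⟩
          have hc : Commute (Φ k k₃ u) a := by
            change _ * _ = _ * _
            rw [← map_mul, ← map_mul, hcomm]
          change Φ k k₃ u * Polynomial.aeval a (L i) = Polynomial.aeval a (L i) * Φ k k₃ u
          generalize L i = g
          induction g using Polynomial.induction_on' with
          | add f g hf hg => rw [map_add, mul_add, add_mul, hf, hg]
          | monomial n r =>
            rw [Polynomial.aeval_monomial]
            exact ((Algebra.commute_algebraMap_right r _).mul_right (hc.pow_right n)).eq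
        · rw [mul_zero, zero_mul]
        · intro s t _ _ hs ht
          rw [mul_add, add_mul, hs, ht]
        · intro c s _ hs
          rw [mul_smul_comm, smul_mul_assoc, hs]
      have h1 := h0 (End.of (π i ≫ f ≫ ι j))
      have h2 : End.asHom (ε i) ≫ π i ≫ f ≫ ι j = (π i ≫ f ≫ ι j) ≫ End.asHom (ε i) := h1
      refine hf ?_
      have h4 := congrArg (fun t => ι i ≫ t ≫ π j) h2
      simp only [← hπι, Category.assoc, reassoc_of% hιπ i, hιπ j, Category.comp_id,
        reassoc_of% (hne j i hij.symm), zero_comp, comp_zero] at h4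
      exact h4
  -- the decomposition
  let u : (Scheme.Modules.pullback (Curv2.bcFst k X k₃)).obj E ≅ ∐ M :=
    { hom := ∑ i, π i ≫ Sigma.ι M i
      inv := Sigma.desc ι
      hom_inv_id := by
        rw [Preadditive.sum_comp]
        simp only [Category.assoc, Sigma.ι_desc]
        exact htot
      inv_hom_id := by
        refine Sigma.hom_ext _ _ fun i => ?_
        rw [Sigma.ι_desc_assoc, Preadditive.comp_sum, Finset.sum_eq_single i, reassoc_of% hιπ i, Category.comp_id]
        · intro j _ hj
          rw [reassoc_of% (hne i j hj.symm), zero_comp]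
        · simp }
  refine ⟨⟨M, hMi, ⟨u⟩, fun i j hij ⟨w⟩ => hn1 i ?_, fun i L' hL' => ?_⟩, ?_⟩
  · rw [← w.hom_inv_id, hzero i j hij w.hom, zero_comp]
  · rintro ⟨w⟩
    have hL1 := ofRank_one_of_invertible hL'
    have hLind : KSMod.Indec L' := by
      refine ⟨fun h => ?_, fun A B ⟨φ⟩ => indecomposable_of_isSimple (k := k)
        (fun ψ => (scalHom_bijective (k := k) hL').2 ψ |>.imp fun c hc => hc.symm) A B ⟨φ⟩⟩
      have := rk_eq_zero_of_isZero h
      rw [rk_eq hL1] at this
      omega
    obtain ⟨b', c', hb⟩ := exists_retract k k₃ (isCoh_of_ofRank hL1) hEc hLind (w.inv ≫ ι i) (π i ≫ w.hom)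
      (by rw [Category.assoc, reassoc_of% hιπ i, w.inv_hom_id])
    obtain ⟨v⟩ := S18782.nonempty_iso_of_retract hLind.1 hind b' c' hb
    have := ((goodCurve_of_smooth (k := k) (X := X) hdim).dg_iso v (isCoh_of_ofRank hL1) hEc).2
    rw [rk_eq hL1, rk_eq hE] at this
    omega
  · haveI := Fact.mk hp
    let ψ : AdjoinRoot p →+* End E := Ideal.Quotient.lift (Ideal.span {p}) (Polynomial.aeval (R := k) α).toRingHom
      fun g hg => by
        obtain ⟨g, rfl⟩ := Ideal.mem_span_singleton.1 hg
        change Polynomial.aeval α (p * g) = 0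
        rw [map_mul, hα, zero_mul]
    refine ⟨p, ψ, hpm, hp, h3, ψ.injective, ?_⟩
    have hspan : ∀ z : R, z ∈ Submodule.span k₃ (Set.range ε) := fun z => by
      have hz : z = ∑ n, ∑ m, ε n * z * ε m := by
        simp only [← Finset.mul_sum, hεt, mul_one, ← Finset.sum_mul, one_mul]
      rw [hz]
      refine Submodule.sum_mem _ fun n _ => Submodule.sum_mem _ fun m _ => ?_
      have h : ε n * z * ε m = End.of (π m ≫ (ι m ≫ End.asHom z ≫ π n) ≫ ι n) := by
        change End.asHom (ε m) ≫ End.asHom z ≫ End.asHom (ε n) = _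
        rw [← hπι, ← hπι]
        simp
      rw [h]
      rcases eq_or_ne m n with rfl | hmn
      · obtain ⟨c, hc⟩ := hsc m (ι m ≫ End.asHom z ≫ π m)
        rw [hc, Linear.smul_comp, Category.id_comp, Linear.comp_smul, hπι]
        exact Submodule.smul_mem _ _ (Submodule.subset_span ⟨m, rfl⟩)
      · rw [hzero m n hmn (ι m ≫ End.asHom z ≫ π n), zero_comp, comp_zero]
        exact Submodule.zero_mem _
    have hcard : Module.finrank k (E ⟶ E) ≤ 3 := by
      have h := finrank_range_le_card (R := k₃) ε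
      rw [Set.finrank, show Submodule.span k₃ (Set.range ε) = ⊤ from eq_top_iff.2 fun z _ => hspan z,
        finrank_top, Fintype.card_fin] at h
      have h' := Module.finrank_eq_card_basis bK
      rw [Fintype.card_fin] at h'
      exact h'.symm.trans_le h
    let ψₗ : AdjoinRoot p →ₗ[k] (E ⟶ E) :=
      { toFun := fun g => ψ g
        map_add' := map_add ψ
        map_smul' := fun c g => by
          induction g using Submodule.Quotient.induction_on with
          | _ g =>
            change Polynomial.aeval α (c • g) = c • Polynomial.aeval α g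
            rw [map_smul] }
    haveI : Module.Finite k (AdjoinRoot p) := (AdjoinRoot.powerBasis hp.ne_zero).finite
    have hdim3 : Module.finrank k (AdjoinRoot p) = 3 := by
      rw [(AdjoinRoot.powerBasis hp.ne_zero).finrank, AdjoinRoot.powerBasis_dim, h3]
    have hle := LinearMap.finrank_le_finrank_of_injective (f := ψₗ) ψ.injective
    have := LinearMap.injective_iff_surjective_of_finrank_eq_finrank
      (show Module.finrank k (AdjoinRoot p) = Module.finrank k (E ⟶ E) by omega) (f := ψₗ)
    exact this.1 ψ.injective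

end Groth.Agent.AutCount27
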