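import Groth.Agent.ShStabLib.BC.HomBC
import Groth.Agent.KSMod.EndFinite
import Groth.Agent.VBLib.Basic
import Groth.Agent.CohDev.Coh
import Mathlib.LinearAlgebra.Dual.Lemmas

/-!
# Retracts descend along field extensions
-/

set_option autoImplicit false
set_option linter.style.haveILetI false
universe u

open CategoryTheory Limits AlgebraicGeometry

noncomputable section

namespace Groth.Agent.AutCount27

variable (k : Type u) [Field k] {X : Scheme.{u}} [X.Over (Spec (CommRingCat.of k))]
  [IsProper (X ↘ Spec (CommRingCat.of k))]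

/-- Homomorphisms of coherent modules over a finite field are finite in number. -/
theorem finite_hom [Finite k] {M N : X.Modules} (h : Coh.IsCoh (M ⊞ N)) : Finite (M ⟶ N) := by
  letI := KSMod.endAlgebra k (X ↘ Spec (CommRingCat.of k)) (M ⊞ N)
  haveI : Finite (End (M ⊞ N)) := @Module.finite_of_finite k (End (M ⊞ N)) _ _ Algebra.toModule _
    (KSMod.finite_end k (X ↘ Spec (CommRingCat.of k)) (M ⊞ N) h)
  refine Finite.of_injective
    (fun f => (End.of (biprod.fst ≫ f ≫ biprod.inr) : End (M ⊞ N))) fun f g hfg => ?_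
  have h' := congrArg (fun t : M ⊞ N ⟶ M ⊞ N => biprod.inl ≫ t ≫ biprod.snd) hfg
  simpa [End.of] using h'

variable (K : Type u) [Field K] [Algebra k K]

/-- A retraction after extension of the field descends, for an indecomposable source. -/
theorem exists_retract [Finite k] {G N : X.Modules} (hG : Coh.IsCoh G) (hN : Coh.IsCoh N)
    (hind : KSMod.Indec G)
    (f : (Scheme.Modules.pullback (Curv2.bcFst k X K)).obj G ⟶ (Scheme.Modules.pullback (Curv2.bcFst k X K)).obj N)
    (g : (Scheme.Modules.pullback (Curv2.bcFst k X K)).obj N ⟶ (Scheme.Modules.pullback (Curv2.bcFst k X K)).obj G)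
    (h : f ≫ g = 𝟙 _) : ∃ (b : G ⟶ N) (b' : N ⟶ G), b ≫ b' = 𝟙 G := by
  haveI := Groth.Agent.KSMod.isArtinianRing_end k (X ↘ Spec (CommRingCat.of k)) G hG
  haveI : IsLocalRing (End G) := hind.isLocalRing
  have hfin : ∀ {A B : X.Modules}, Coh.IsCoh (A ⊞ B) → Module.Finite k (A ⟶ B) := fun hAB =>
    haveI := finite_hom k hAB
    Module.Finite.of_finite
  haveI := hfin (CohDev.isCoh_biprod hG hG)
  haveI := hfin (CohDev.isCoh_biprod hG hN)
  haveI := hfin (CohDev.isCoh_biprod hN hG)
  by_contra hno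
  have hnu : ∀ (b : G ⟶ N) (b' : N ⟶ G), ¬ IsUnit (End.of (b ≫ b') : End G) := fun b b' hu => by
    haveI : IsIso (b ≫ b') := (isUnit_iff_isIso _).1 hu
    exact hno ⟨b, b' ≫ inv (b ≫ b'), by rw [← Category.assoc, IsIso.hom_inv_id]⟩
  let m : Submodule k (G ⟶ G) :=
    { carrier := {x | ¬ IsUnit (End.of x : End G)}
      add_mem' := fun {x y} hx hy => IsLocalRing.nonunits_add (a := (End.of x : End G)) (b := End.of y) hx hy
      zero_mem' := fun h0 => zero_ne_one (isUnit_zero_iff.1 (show IsUnit (0 : End G) from h0))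
      smul_mem' := fun c x hx hu => by
        rcases eq_or_ne c 0 with rfl | hc
        · exact zero_ne_one (isUnit_zero_iff.1
            (show IsUnit (0 : End G) by rwa [zero_smul] at hu))
        · haveI : IsIso (c • x) := (isUnit_iff_isIso _).1 hu
          refine hx ((isUnit_iff_isIso _).2 ⟨⟨c • inv (c • x), ?_, ?_⟩⟩)
          · rw [Linear.comp_smul, ← Linear.smul_comp, IsIso.hom_inv_id]
          · rw [Linear.smul_comp, ← Linear.comp_smul, IsIso.inv_hom_id] }
  obtain ⟨φ, hφ1, hφm⟩ := Submodule.exists_dual_map_eq_bot_of_notMem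
    (p := m) (x := 𝟙 G) (fun hm => hm isUnit_one) inferInstance
  replace hφm := LinearMap.le_ker_iff_map.2 hφm
  let b := Module.finBasis k (G ⟶ G)
  obtain ⟨bK, hbK⟩ := ShStabLib.BC.exists_basis_pullHom k K G G hG hG b
  let ψ := bK.constr K fun i => algebraMap k K (φ (b i))
  have hψ : ∀ x, ψ (ShStabLib.BC.pullHom k K G G x) = algebraMap k K (φ x) := fun x => by
    rw [← b.sum_repr x]
    simp only [map_sum, map_smulₛₗ, map_smul, RingHom.id_apply, smul_eq_mul, map_mul, ← hbK]
    exact Finset.sum_congr rfl fun i _ => by rw [bK.constr_basis]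
  let c := Module.finBasis k (G ⟶ N)
  obtain ⟨cK, hcK⟩ := ShStabLib.BC.exists_basis_pullHom k K G N hG hN c
  let d := Module.finBasis k (N ⟶ G)
  obtain ⟨dK, hdK⟩ := ShStabLib.BC.exists_basis_pullHom k K N G hN hG d
  have h0 : ψ (f ≫ g) = 0 := by
    rw [← cK.sum_repr f, ← dK.sum_repr g]
    simp only [Preadditive.sum_comp, Linear.smul_comp, map_sum, map_smul]
    refine Finset.sum_eq_zero fun i _ => ?_
    rw [Preadditive.comp_sum, map_sum, Finset.sum_eq_zero fun j _ => ?_, smul_zero]
    rw [Linear.comp_smul, map_smul, hcK, hdK, ← ShStabLib.BC.pullHom_comp, hψ,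
      LinearMap.mem_ker.1 (hφm (show c i ≫ d j ∈ m from hnu _ _)), map_zero, smul_zero]
  have h1 : ψ (f ≫ g) = algebraMap k K (φ (𝟙 G)) := by
    rw [h, ← hψ]
    exact congrArg ψ ((Scheme.Modules.pullback (Curv2.bcFst k X K)).map_id G).symm
  exact hφ1 ((map_eq_zero _).1 (h1.symm.trans h0))

end Groth.Agent.AutCount27
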