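import Mathlib.FieldTheory.Finite.Basic
import Mathlib.FieldTheory.Finite.GaloisField
import Mathlib.Algebra.Algebra.Operations
import Mathlib.RingTheory.LocalRing.Basic
import Mathlib.RingTheory.Polynomial.Basic
import Mathlib.RingTheory.AdjoinRoot

/-!
# Finite local algebras over finite fields
-/

set_option autoImplicit false

open Pointwise Polynomial

namespace Groth.Agent.AutCount27

variable {A : Type*} [Ring A] [Finite A] [IsLocalRing A]

theorem not_isUnit_mul_left {a : A} (ha : ¬ IsUnit a) (b : A) : ¬ IsUnit (a * b) :=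
  fun h => ha (isUnit_of_mul_isUnit_left h)

theorem not_isUnit_mul_right {a : A} (ha : ¬ IsUnit a) (b : A) : ¬ IsUnit (b * a) :=
  fun h => ha (isUnit_of_mul_isUnit_right h)

/-- Multiplying by a nonunit shrinks the principal right ideal. -/
theorem ncard_mul_lt {x s : A} (hs : ¬ IsUnit s) (hx : x * s ≠ 0) :
    (Set.range fun a => x * s * a).ncard < (Set.range fun a => x * a).ncard := by
  refine Set.ncard_lt_ncard ⟨?_, fun hle => ?_⟩ (Set.toFinite _)
  · rintro _ ⟨a, rfl⟩
    exact ⟨s * a, (mul_assoc x s a).symm⟩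
  · obtain ⟨a, ha⟩ := hle ⟨1, rfl⟩
    have ha' : x * (s * a) = x * 1 := (mul_assoc x s a).symm.trans ha
    have hu : IsUnit (1 - s * a) :=
      (IsLocalRing.isUnit_or_isUnit_of_add_one (add_sub_cancel (s * a) 1)).resolve_left
        (not_isUnit_mul_left hs a)
    have h0 : x * (1 - s * a) = 0 := by rw [mul_sub, ha', sub_self]
    exact hx (by rw [(hu.mul_left_eq_zero).1 h0, zero_mul])

/-- A set stable under dividing by nonunits is zero. -/
theorem eq_zero_of_subset_mul (S : Set A) (hS : S ⊆ S * nonunits A) : S ⊆ {0} := by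
  intro x hx
  by_contra hx0
  have hfin : ((fun y => (Set.range fun a => y * a).ncard) '' (S \ {0})).Finite := Set.toFinite _
  obtain ⟨n, hn⟩ := hfin.bddAbove
  obtain ⟨m, hm, hmax⟩ := Set.exists_max_image (S \ {0}) (fun y => (Set.range fun a => y * a).ncard)
    (Set.toFinite _) ⟨x, hx, hx0⟩
  obtain ⟨y, hy, s, hs, rfl⟩ := hS hm.1
  have hys : y * s ≠ 0 := hm.2
  have hy0 : y ∉ ({0} : Set A) := fun h => hys (by rw [Set.mem_singleton_iff.1 h, zero_mul])
  exact (hmax y ⟨hy, hy0⟩).not_gt (ncard_mul_lt hs hys)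

/-- The nonunits form a nilpotent set. -/
theorem nonunits_pow_eq_zero : ∃ n : ℕ, nonunits A ^ (n + 1) ⊆ {0} := by
  have hstep : ∀ n : ℕ, nonunits A ^ (n + 2) ⊆ nonunits A ^ (n + 1) := by
    intro n
    induction n with
    | zero =>
      rw [pow_succ, pow_one]
      rintro _ ⟨a, ha, b, hb, rfl⟩
      exact not_isUnit_mul_left ha b
    | succ n ih =>
      rw [pow_succ, pow_succ (nonunits A) (n + 1)]
      exact Set.mul_subset_mul_right ih
  by_contra hno
  push Not at hno
  have hlt : ∀ n : ℕ, (nonunits A ^ (n + 2)).ncard < (nonunits A ^ (n + 1)).ncard := by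
    intro n
    refine Set.ncard_lt_ncard ⟨hstep n, fun hle => hno n (eq_zero_of_subset_mul _ ?_)⟩ (Set.toFinite _)
    rw [← pow_succ]
    exact hle
  have : ∀ n : ℕ, (nonunits A ^ (n + 1)).ncard + n ≤ Nat.card A := by
    intro n
    induction n with
    | zero => exact Set.ncard_le_card _
    | succ n ih =>
      have := hlt n
      rw [show n + 1 + 1 = n + 2 from rfl]
      omega
  have := this (Nat.card A + 1)
  omega

/-- A nonzero nonunit killed by all nonunits from the right, when there is a nonzero nonunit. -/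
theorem exists_annihilated (h : ∃ x : A, x ≠ 0 ∧ ¬ IsUnit x) :
    ∃ x : A, x ≠ 0 ∧ ∀ a : A, x * a * x = 0 := by
  obtain ⟨x, hx, hmin⟩ := Set.exists_min_image {x : A | x ≠ 0 ∧ ¬ IsUnit x}
    (fun y => (Set.range fun a => y * a).ncard) (Set.toFinite _) h
  refine ⟨x, hx.1, fun a => ?_⟩
  rw [mul_assoc]
  by_contra hne
  exact (hmin (x * (a * x)) ⟨hne, not_isUnit_mul_left hx.2 _⟩).not_gt
    (ncard_mul_lt (not_isUnit_mul_right hx.2 a) hne)

variable {k : Type*} [Field k] [Finite k] [Algebra k A]

omit [Finite A] [IsLocalRing A] in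
theorem aeval_pow_card_pow (f : k[X]) (n : ℕ) (α : A) :
    aeval α f ^ (Nat.card k ^ n) = aeval (α ^ (Nat.card k ^ n)) f := by
  cases nonempty_fintype k
  rw [Nat.card_eq_fintype_card]
  induction n generalizing α with
  | zero => simp
  | succ n ih =>
    rw [pow_succ, pow_mul, ← map_pow, ← map_pow, ← FiniteField.expand_card, expand_aeval, map_pow, ih,
      ← pow_mul, mul_comm]

/-- Either the residue field is the base field or an irreducible nonlinear polynomial has a root. -/
theorem scalar_or_exists_root :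
    (∀ u : A, ∃ c : k, ¬ IsUnit (u - algebraMap k A c)) ∨
      ∃ (p : k[X]) (α : A), p.Monic ∧ Irreducible p ∧ 2 ≤ p.natDegree ∧ aeval α p = 0 := by
  refine or_iff_not_imp_left.2 fun hu => ?_
  push Not at hu
  obtain ⟨u, hu⟩ := hu
  haveI : Module.Finite k A := Module.Finite.of_finite
  obtain ⟨f, hf, hf0⟩ := IsIntegral.of_finite k u
  have key : ∀ d (f : k[X]), f.natDegree = d → f.Monic → ¬ IsUnit (aeval u f) →
      ∃ g : k[X], g.Monic ∧ Irreducible g ∧ ¬ IsUnit (aeval u g) := by
    intro d
    induction d using Nat.strong_induction_on with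
    | _ d ih =>
      intro f hd hfm hfu
      have hf1 : ¬ IsUnit f := fun h => hfu (h.map (aeval u))
      obtain ⟨g, hg, hgi, h, rfl⟩ := Polynomial.exists_monic_irreducible_factor f hf1
      by_cases hgu : IsUnit (aeval u g)
      · have hhm : h.Monic := hg.of_mul_monic_left hfm
        refine ih h.natDegree ?_ h rfl hhm fun hh => hfu (by rw [map_mul]; exact hgu.mul hh)
        rw [← hd, hg.natDegree_mul hhm]
        have := hgi.natDegree_pos
        omega
      · exact ⟨g, hg, hgi, hgu⟩
  obtain ⟨p, hp, hpi, hpu⟩ := key _ f rfl hf (by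
    rw [show aeval u f = 0 from hf0]
    exact not_isUnit_zero)
  obtain ⟨n, hn⟩ := nonunits_pow_eq_zero (A := A)
  refine ⟨p, u ^ (Nat.card k ^ (n + 1)), hp, hpi, ?_, ?_⟩
  · by_contra hlt
    have h1 : p.natDegree = 1 := by
      have := hpi.natDegree_pos
      omega
    refine hpu ?_
    rw [hp.eq_X_add_C h1]
    simpa [sub_eq_add_neg] using hu (-(p.coeff 0))
  · rw [← aeval_pow_card_pow]
    have hle : n + 1 ≤ Nat.card k ^ (n + 1) := (Nat.lt_pow_self Finite.one_lt_card).le
    have h0 : aeval u p ^ (n + 1) = 0 := Set.mem_singleton_iff.1 (hn (Set.pow_mem_pow hpu))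
    exact pow_eq_zero_of_le hle h0

omit [Finite A] [Finite k] in
/-- An irreducible polynomial with a root divides all polynomials with that root. -/
theorem dvd_of_aeval_eq_zero {p q : k[X]} (hp : Irreducible p) {α : A} (hα : aeval α p = 0)
    (hq : aeval α q = 0) : p ∣ q := by
  by_contra hpq
  obtain ⟨a, b, hab⟩ := (hp.coprime_iff_not_dvd).2 hpq
  have := congrArg (aeval α) hab
  simp [hα, hq] at this

/-- A root of an irreducible quadratic in a quadratic extension. -/
theorem exists_root_quadratic {p : k[X]} (hp : Irreducible p) (h2 : p.natDegree = 2)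
    (L : Type*) [Field L] [Algebra k L] (hL : Module.finrank k L = 2) :
    ∃ l m : L, l ≠ m ∧ p.map (algebraMap k L) = C (p.map (algebraMap k L)).leadingCoeff * ((X - C l) * (X - C m)) := by
  haveI := Fact.mk hp
  haveI : Module.Finite k (AdjoinRoot p) := (AdjoinRoot.powerBasis hp.ne_zero).finite
  haveI : Finite (AdjoinRoot p) := Module.finite_of_finite k
  haveI : Module.Finite k L := Module.finite_of_finrank_eq_succ hL
  haveI : Finite L := Module.finite_of_finite k
  obtain ⟨f⟩ := FiniteField.nonempty_algHom_of_finrank_dvd (F := k) (K := AdjoinRoot p) (L := L)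
    (by rw [hL, (AdjoinRoot.powerBasis hp.ne_zero).finrank, AdjoinRoot.powerBasis_dim, h2])
  let l := f (AdjoinRoot.root p)
  let q := p.map (algebraMap k L)
  have hroot : q.IsRoot l := by
    rw [IsRoot, eval_map_algebraMap, aeval_algHom_apply]
    simp
  obtain ⟨r, hr⟩ := dvd_iff_isRoot.2 hroot
  have hq2 : q.natDegree = 2 := by rw [natDegree_map, h2]
  have hq0 : q ≠ 0 := fun h => by rw [h] at hq2; simp at hq2
  have hr0 : r ≠ 0 := fun h => hq0 (by rw [hr, h, mul_zero])
  have hr1 : r.natDegree = 1 := by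
    rw [hr, natDegree_mul (X_sub_C_ne_zero l) hr0, natDegree_X_sub_C] at hq2
    omega
  obtain ⟨a, ha, b, hab⟩ := natDegree_eq_one.1 hr1
  have hlc : q.leadingCoeff = a := by
    rw [hr, leadingCoeff_mul, leadingCoeff_X_sub_C, one_mul, ← hab, leadingCoeff_linear ha]
  have hr' : r = C a * (X - C (-b / a)) := by
    rw [← hab, mul_sub, ← C_mul, mul_div_cancel₀ _ ha, map_neg, sub_neg_eq_add]
  refine ⟨l, -b / a, fun hlm => ?_, ?_⟩
  · have hsep : q.Separable := (PerfectField.separable_of_irreducible hp).map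
    rw [hr, hr', hlm] at hsep
    exact (not_isUnit_X_sub_C (-b / a)) ((hsep.squarefree) (X - C (-b / a)) ⟨C a, by ring⟩)
  · change q = _
    rw [hlc, hr, hr']
    ring

end Groth.Agent.AutCount27
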