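import Groth.Agent.AutCount27.Basic
import Mathlib.Algebra.Homology.ShortComplex.ShortExact
import Mathlib.CategoryTheory.Linear.Basic

/-!
# Endomorphisms of a nonsplit self extension of a simple object
-/

set_option autoImplicit false

open CategoryTheory Limits

noncomputable section

namespace Groth.Agent.AutCount27

variable {C : Type*} [Category C] [Preadditive C] {k : Type*} [Field k] [Linear k C]
variable {O F : C} (i : O ⟶ F) (p : F ⟶ O)

/-- The data of a nonsplit self extension of an object with scalar endomorphisms. -/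
structure SelfExtData : Prop where
  ip : i ≫ p = 0
  endO : ∀ f : O ⟶ O, ∃ c : k, f = c • 𝟙 O
  nz : 𝟙 O ≠ (0 : O ⟶ O)
  split_r : ∀ g : F ⟶ O, i ≫ g ≠ 𝟙 O
  split_l : ∀ s : O ⟶ F, s ≫ p ≠ 𝟙 O
  ker : ∀ {A : C} (f : A ⟶ F), f ≫ p = 0 → ∃ h, h ≫ i = f
  coker : ∀ {A : C} (f : F ⟶ A), i ≫ f = 0 → ∃ h, p ≫ h = f
  monoI : Mono i
  epiP : Epi p

namespace SelfExtData

variable {i p} (H : SelfExtData (k := k) i p)

include H

theorem smul_id_inj {a b : k} (h : a • 𝟙 O = b • 𝟙 O) : a = b := by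
  by_contra hab
  have h' : (a - b) • 𝟙 O = 0 := by rw [sub_smul, h, sub_self]
  exact H.nz ((smul_eq_zero.1 h').resolve_left (sub_ne_zero.2 hab))

theorem hom_left (f : O ⟶ F) : ∃ c : k, f = c • i := by
  obtain ⟨c, hc⟩ := H.endO (f ≫ p)
  have h0 : c = 0 := by
    by_contra hc0
    exact H.split_l (c⁻¹ • f) (by rw [Linear.smul_comp, hc, smul_smul, inv_mul_cancel₀ hc0, one_smul])
  obtain ⟨h, hh⟩ := H.ker f (by rw [hc, h0, zero_smul])
  obtain ⟨d, rfl⟩ := H.endO h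
  exact ⟨d, by rw [← hh, Linear.smul_comp, Category.id_comp]⟩

theorem hom_right (g : F ⟶ O) : ∃ c : k, g = c • p := by
  obtain ⟨c, hc⟩ := H.endO (i ≫ g)
  have h0 : c = 0 := by
    by_contra hc0
    exact H.split_r (c⁻¹ • g) (by rw [Linear.comp_smul, hc, smul_smul, inv_mul_cancel₀ hc0, one_smul])
  obtain ⟨h, hh⟩ := H.coker g (by rw [hc, h0, zero_smul])
  obtain ⟨d, rfl⟩ := H.endO h
  exact ⟨d, by rw [← hh, Linear.comp_smul, Category.comp_id]⟩

theorem end_mid (φ : F ⟶ F) : ∃ d e : k, φ = d • 𝟙 F + e • (p ≫ i) := by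
  obtain ⟨d, hd⟩ := H.hom_left (i ≫ φ)
  obtain ⟨h, hh⟩ := H.coker (φ - d • 𝟙 F) (by
    rw [Preadditive.comp_sub, hd, Linear.comp_smul, Category.comp_id, sub_self])
  obtain ⟨e, rfl⟩ := H.hom_left h
  refine ⟨d, e, ?_⟩
  rw [← sub_eq_iff_eq_add', ← hh, Linear.comp_smul]

theorem i_ne : i ≠ 0 := fun h => by
  haveI := H.monoI
  exact H.nz ((cancel_mono i).1 (by rw [h, comp_zero, comp_zero]))

theorem p_ne : p ≠ 0 := fun h => by
  haveI := H.epiP
  exact H.nz ((cancel_epi p).1 (by rw [h, zero_comp, zero_comp]))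

theorem pi_ne : p ≫ i ≠ 0 := fun h => by
  haveI := H.monoI
  exact H.p_ne ((cancel_mono i).1 (by rw [h, zero_comp]))

theorem mid_inj {d e d' e' : k} (h : d • 𝟙 F + e • (p ≫ i) = d' • 𝟙 F + e' • (p ≫ i)) :
    d = d' ∧ e = e' := by
  have h1 := congrArg (fun z => i ≫ z) h
  simp only [Preadditive.comp_add, Linear.comp_smul, reassoc_of% H.ip, zero_comp, smul_zero, add_zero,
    Category.comp_id] at h1
  have hd : d = d' := by
    by_contra hne
    have h' : (d - d') • i = 0 := by rw [sub_smul, h1, sub_self]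
    exact H.i_ne ((smul_eq_zero.1 h').resolve_left (sub_ne_zero.2 hne))
  subst hd
  refine ⟨rfl, ?_⟩
  by_contra hne
  have h' : (e - e') • (p ≫ i) = 0 := by rw [sub_smul, add_left_cancel h, sub_self]
  exact H.pi_ne ((smul_eq_zero.1 h').resolve_left (sub_ne_zero.2 hne))

theorem card_units_end : Nat.card (End F)ˣ = (Nat.card k - 1) * Nat.card k := by
  let Φ : k × k → (F ⟶ F) := fun x => x.1 • 𝟙 F + x.2 • (p ≫ i)
  have hsq : (p ≫ i) ≫ (p ≫ i) = 0 := by rw [Category.assoc, reassoc_of% H.ip, zero_comp, comp_zero]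
  have hmul : ∀ x y, Φ y ≫ Φ x = Φ (x.1 * y.1, x.1 * y.2 + x.2 * y.1) := fun x y => by
    change (y.1 • 𝟙 F + y.2 • (p ≫ i)) ≫ (x.1 • 𝟙 F + x.2 • (p ≫ i)) = _
    simp only [Φ, Preadditive.comp_add, Preadditive.add_comp, Linear.smul_comp, Linear.comp_smul,
      Category.id_comp, Category.comp_id, hsq, smul_zero, smul_smul, add_smul, add_zero]
    module
  have hΦ : Function.Bijective Φ := ⟨fun x y h => Prod.ext (H.mid_inj h).1 (H.mid_inj h).2,
    fun φ => let ⟨d, e, h⟩ := H.end_mid φ; ⟨(d, e), h.symm⟩⟩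
  have hone : Φ (1, 0) = 𝟙 F := by simp [Φ]
  let ΦE : k × k → End F := Φ
  have hunit : ∀ x, IsUnit (ΦE x) ↔ x.1 ≠ 0 := by
    intro x
    constructor
    · intro hx hx0
      obtain ⟨y, hy⟩ := hx.exists_right_inv
      obtain ⟨y, rfl⟩ := hΦ.2 y
      have hy' : Φ y ≫ Φ x = 𝟙 F := hy
      rw [hmul, ← hone] at hy'
      have := congrArg Prod.fst (hΦ.1 hy')
      simp [hx0] at this
    · intro hx
      refine ⟨⟨ΦE x, ΦE (x.1⁻¹, -(x.2 * x.1⁻¹ * x.1⁻¹)), ?_, ?_⟩, rfl⟩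
      · change Φ _ ≫ Φ _ = 𝟙 F
        rw [hmul, ← hone]
        exact congrArg Φ (Prod.ext (by field_simp) (by field_simp; ring))
      · change Φ _ ≫ Φ _ = 𝟙 F
        rw [hmul, ← hone]
        exact congrArg Φ (Prod.ext (by field_simp) (by field_simp; ring))
  let e₁ : {x : k × k // x.1 ≠ 0} ≃ {φ : End F // IsUnit φ} :=
    (Equiv.ofBijective ΦE hΦ).subtypeEquiv fun x => (hunit x).symm
  let e₂ : {x : k × k // x.1 ≠ 0} ≃ kˣ × k :=
    { toFun := fun x => (Units.mk0 x.1.1 x.2, x.1.2)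
      invFun := fun y => ⟨((y.1 : k), y.2), y.1.ne_zero⟩
      left_inv := fun x => rfl
      right_inv := fun y => Prod.ext (Units.ext rfl) rfl }
  have e₃ : {φ : End F // IsUnit φ} ≃ (End F)ˣ :=
    { toFun := fun φ => φ.2.unit
      invFun := fun u => ⟨u, u.isUnit⟩
      left_inv := fun φ => rfl
      right_inv := fun u => Units.ext rfl }
  rw [← Nat.card_congr ((e₂.symm.trans e₁).trans e₃), Nat.card_prod, Nat.card_units]

section Sum

variable [HasBinaryBiproduct O F]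

theorem card_units_end_sum :
    Nat.card (End (O ⊞ F))ˣ = (Nat.card k - 1) ^ 2 * Nat.card k ^ 3 := by
  let X₁ : O ⊞ F ⟶ O ⊞ F := biprod.fst ≫ biprod.inl
  let X₂ : O ⊞ F ⟶ O ⊞ F := biprod.fst ≫ i ≫ biprod.inr
  let X₃ : O ⊞ F ⟶ O ⊞ F := biprod.snd ≫ p ≫ biprod.inl
  let X₄ : O ⊞ F ⟶ O ⊞ F := biprod.snd ≫ biprod.inr
  let X₅ : O ⊞ F ⟶ O ⊞ F := biprod.snd ≫ (p ≫ i) ≫ biprod.inr
  let Φ : k × k × k × k × k → (O ⊞ F ⟶ O ⊞ F) := fun x =>
    x.1 • X₁ + x.2.1 • X₂ + x.2.2.1 • X₃ + x.2.2.2.1 • X₄ + x.2.2.2.2 • X₅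
  have hmul : ∀ a b c d e a' b' c' d' e' : k, Φ (a, b, c, d, e) ≫ Φ (a', b', c', d', e') =
      Φ (a * a', a * b' + b * d', c * a' + d * c', d * d', c * b' + d * e' + e * d') := by
    intro a b c d e a' b' c' d' e'
    simp only [Φ, X₁, X₂, X₃, X₄, X₅, Preadditive.comp_add, Preadditive.add_comp, Linear.smul_comp,
      Linear.comp_smul, Category.assoc, biprod.inl_fst_assoc, biprod.inl_snd_assoc, biprod.inr_fst_assoc,
      biprod.inr_snd_assoc, reassoc_of% H.ip, zero_comp, comp_zero, smul_zero, smul_smul, add_smul, add_zero,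
      zero_add]
    module
  have hΦ : Function.Bijective Φ := by
    refine ⟨?_, fun φ => ?_⟩
    · rintro ⟨a, b, c, d, e⟩ ⟨a', b', c', d', e'⟩ h
      have h11 := congrArg (fun z : O ⊞ F ⟶ O ⊞ F => biprod.inl ≫ z ≫ biprod.fst) h
      have h12 := congrArg (fun z : O ⊞ F ⟶ O ⊞ F => biprod.inl ≫ z ≫ biprod.snd) h
      have h21 := congrArg (fun z : O ⊞ F ⟶ O ⊞ F => biprod.inr ≫ z ≫ biprod.fst) h
      have h22 := congrArg (fun z : O ⊞ F ⟶ O ⊞ F => biprod.inr ≫ z ≫ biprod.snd) h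
      simp [Φ, X₁, X₂, X₃, X₄, X₅] at h11 h12 h21 h22
      have hb : b = b' := by
        by_contra hne
        exact H.i_ne ((smul_eq_zero.1 (show (b - b') • i = 0 by rw [sub_smul, h12, sub_self])).resolve_left
          (sub_ne_zero.2 hne))
      have hc : c = c' := by
        by_contra hne
        exact H.p_ne ((smul_eq_zero.1 (show (c - c') • p = 0 by rw [sub_smul, h21, sub_self])).resolve_left
          (sub_ne_zero.2 hne))
      obtain ⟨hd, he⟩ := H.mid_inj h22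
      rw [H.smul_id_inj h11, hb, hc, hd, he]
    · obtain ⟨a, ha⟩ := H.endO (biprod.inl ≫ φ ≫ biprod.fst)
      obtain ⟨b, hb⟩ := H.hom_left (biprod.inl ≫ φ ≫ biprod.snd)
      obtain ⟨c, hc⟩ := H.hom_right (biprod.inr ≫ φ ≫ biprod.fst)
      obtain ⟨d, e, hde⟩ := H.end_mid (biprod.inr ≫ φ ≫ biprod.snd)
      refine ⟨(a, b, c, d, e), biprod.hom_ext' _ _ (biprod.hom_ext _ _ ?_ ?_) (biprod.hom_ext _ _ ?_ ?_)⟩
      · simp [Φ, X₁, X₂, X₃, X₄, X₅, ha]
      · simp [Φ, X₁, X₂, X₃, X₄, X₅, hb]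
      · simp [Φ, X₁, X₂, X₃, X₄, X₅, hc]
      · simp [Φ, X₁, X₂, X₃, X₄, X₅, hde]
  have hone : Φ (1, 0, 0, 1, 0) = 𝟙 (O ⊞ F) := by
    simp only [Φ, X₁, X₄, one_smul, zero_smul, add_zero]
    exact biprod.total
  let ΦE : k × k × k × k × k → End (O ⊞ F) := Φ
  have hunit : ∀ x, IsUnit (ΦE x) ↔ x.1 ≠ 0 ∧ x.2.2.2.1 ≠ 0 := by
    rintro ⟨a, b, c, d, e⟩
    constructor
    · intro hx
      obtain ⟨y, hy⟩ := hx.exists_left_inv
      obtain ⟨⟨a', b', c', d', e'⟩, rfl⟩ := hΦ.2 y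
      have hy' : Φ (a, b, c, d, e) ≫ Φ (a', b', c', d', e') = 𝟙 _ := hy
      rw [hmul] at hy'
      have h := hΦ.1 (hy'.trans hone.symm)
      simp only [Prod.mk.injEq] at h
      exact ⟨left_ne_zero_of_mul_eq_one h.1, left_ne_zero_of_mul_eq_one h.2.2.2.1⟩
    · rintro ⟨ha, hd⟩
      change a ≠ 0 at ha
      change d ≠ 0 at hd
      refine ⟨⟨ΦE (a, b, c, d, e), ΦE (a⁻¹, -(b * (a⁻¹ * d⁻¹)), -(c * (a⁻¹ * d⁻¹)), d⁻¹,
        (c * b * (a⁻¹ * d⁻¹) - e * d⁻¹) * d⁻¹), ?_, ?_⟩, rfl⟩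
      · change Φ _ ≫ Φ _ = 𝟙 _
        rw [hmul]
        refine (congrArg Φ ?_).trans hone
        simp only [Prod.mk.injEq]
        refine ⟨?_, ?_, ?_, ?_, ?_⟩ <;> field_simp <;> ring
      · change Φ _ ≫ Φ _ = 𝟙 _
        rw [hmul]
        refine (congrArg Φ ?_).trans hone
        simp only [Prod.mk.injEq]
        refine ⟨?_, ?_, ?_, ?_, ?_⟩ <;> field_simp <;> ring
  let e₁ : {x : k × k × k × k × k // x.1 ≠ 0 ∧ x.2.2.2.1 ≠ 0} ≃ {φ : End (O ⊞ F) // IsUnit φ} :=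
    (Equiv.ofBijective ΦE hΦ).subtypeEquiv fun x => (hunit x).symm
  let e₂ : {x : k × k × k × k × k // x.1 ≠ 0 ∧ x.2.2.2.1 ≠ 0} ≃ kˣ × kˣ × k × k × k :=
    { toFun := fun x => (Units.mk0 x.1.1 x.2.1, Units.mk0 x.1.2.2.2.1 x.2.2, x.1.2.1, x.1.2.2.1, x.1.2.2.2.2)
      invFun := fun y => ⟨((y.1 : k), y.2.2.1, y.2.2.2.1, (y.2.1 : k), y.2.2.2.2), y.1.ne_zero, y.2.1.ne_zero⟩
      left_inv := fun x => rfl
      right_inv := fun y => Prod.ext (Units.ext rfl) (Prod.ext (Units.ext rfl) rfl) }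
  have e₃ : {φ : End (O ⊞ F) // IsUnit φ} ≃ (End (O ⊞ F))ˣ :=
    { toFun := fun φ => φ.2.unit
      invFun := fun u => ⟨u, u.isUnit⟩
      left_inv := fun φ => rfl
      right_inv := fun u => Units.ext rfl }
  rw [← Nat.card_congr ((e₂.symm.trans e₁).trans e₃)]
  simp only [Nat.card_prod, Nat.card_units]
  ring

end Sum

end SelfExtData

end Groth.Agent.AutCount27
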